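import Cfsg.Agent.PairSyl14.Defs
import Mathlib.RepresentationTheory.Character
import Mathlib.RepresentationTheory.Irreducible

/-!
# S3019: three conjugates of a subgroup that generate bound its fixed points
-/

set_option autoImplicit false
set_option linter.style.haveILetI false

namespace Cfsg.Agent.PairSyl14

open Cfsg Representation Module

universe u

namespace BoundAux

variable {G : Type u} [Group G] {n : ℕ} (ρ : Representation ℂ G (Fin n → ℂ))

/-- The vectors fixed by a subgroup. -/
noncomputable def fixSub (A : Subgroup G) : Submodule ℂ (Fin n → ℂ) :=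
  invariants (ρ.comp A.subtype)

theorem mem_fixSub {A : Subgroup G} {v : Fin n → ℂ} :
    v ∈ fixSub ρ A ↔ ∀ g ∈ A, ρ g v = v := by
  simp [fixSub, mem_invariants]

theorem finrank_fixSub_conj (A : Subgroup G) (x : G) :
    finrank ℂ (fixSub ρ (A.map (MulAut.conj x).toMonoidHom)) = finrank ℂ (fixSub ρ A) := by
  let e : (Fin n → ℂ) ≃ₗ[ℂ] (Fin n → ℂ) :=
    { (ρ x : (Fin n → ℂ) →ₗ[ℂ] (Fin n → ℂ)) with
      invFun := ρ x⁻¹
      left_inv := fun v => by simp [← Module.End.mul_apply, ← map_mul]
      right_inv := fun v => by simp [← Module.End.mul_apply, ← map_mul] }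
  have he : fixSub ρ (A.map (MulAut.conj x).toMonoidHom)
      = (fixSub ρ A).map (e : (Fin n → ℂ) →ₗ[ℂ] (Fin n → ℂ)) := by
    ext v
    rw [Submodule.mem_map]
    simp only [mem_fixSub]
    constructor
    · intro h
      refine ⟨ρ x⁻¹ v, fun g hg => ?_, by simp [e, ← Module.End.mul_apply, ← map_mul]⟩
      have h2 := congrArg (ρ x⁻¹) (h _ ⟨g, hg, rfl⟩)
      simpa [← Module.End.mul_apply, ← map_mul, mul_assoc] using h2
    · rintro ⟨w, hw, rfl⟩ _ ⟨g, hg, rfl⟩
      show ρ (x * g * x⁻¹) (ρ x w) = ρ x w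
      rw [← Module.End.mul_apply, ← map_mul, inv_mul_cancel_right, map_mul, Module.End.mul_apply,
        hw g hg]
  rw [he]
  exact e.finrank_map_eq _

theorem sumB_eq [Fintype G] (A : Subgroup G) :
    sumB A ρ.character = (Nat.card A : ℂ) * (finrank ℂ (fixSub ρ A) : ℂ) := by
  classical
  haveI := Fintype.ofFinite A
  have hne : (Nat.card A : ℂ) ≠ 0 := Nat.cast_ne_zero.mpr Nat.card_pos.ne'
  haveI : Invertible (Nat.card A : ℂ) := invertibleOfNonzero hne
  rw [fixSub, ← card_inv_mul_sum_char_eq_finrank (ρ.comp A.subtype), mul_inv_cancel_left₀ hne,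
    sumB]
  rw [Finset.sum_subtype (p := fun g => g ∈ A) (Finset.univ.filter (· ∈ A)) (fun g => by simp)
    (fun g => ρ.character g)]
  rfl

/-- The stabilizer of a vector. -/
def stab (v : Fin n → ℂ) : Subgroup G where
  carrier := {g | ρ g v = v}
  one_mem' := by simp
  mul_mem' {x y} hx hy := by
    simp only [Set.mem_setOf_eq] at hx hy ⊢
    rw [map_mul, Module.End.mul_apply, hy, hx]
  inv_mem' {x} hx := by
    simp only [Set.mem_setOf_eq] at hx ⊢
    conv_lhs => rw [← hx]
    simp [← Module.End.mul_apply, ← map_mul]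

end BoundAux

open BoundAux in
/-- Three conjugates generating bound the fixed points. -/
theorem bound : BoundStmt.{u} := by
  intro G _ _ B a b c hgen χ hχ
  obtain ⟨χf, n, ρ, hρ, rfl⟩ := χ
  haveI := hρ
  refine ⟨finrank ℂ (fixSub ρ B), sumB_eq ρ B, ?_⟩
  have hdeg : charDegree ρ.character = n := by simp [charDegree]
  show 3 * finrank ℂ (fixSub ρ B) ≤ 2 * charDegree ρ.character
  rw [hdeg]
  set U := fixSub ρ (B.map (MulAut.conj a).toMonoidHom)
  set V := fixSub ρ (B.map (MulAut.conj b).toMonoidHom)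
  set W := fixSub ρ (B.map (MulAut.conj c).toMonoidHom)
  have hfix : ∀ v ∈ U ⊓ V ⊓ W, ∀ g : G, ρ g v = v := by
    rintro v ⟨⟨hU, hV⟩, hW⟩ g
    have hle : B.map (MulAut.conj a).toMonoidHom ⊔ B.map (MulAut.conj b).toMonoidHom ⊔
        B.map (MulAut.conj c).toMonoidHom ≤ stab ρ v :=
      sup_le (sup_le (fun g hg => (mem_fixSub ρ).mp hU g hg)
        (fun g hg => (mem_fixSub ρ).mp hV g hg)) (fun g hg => (mem_fixSub ρ).mp hW g hg)
    exact hle (hgen ▸ Subgroup.mem_top g)
  have hbot : U ⊓ V ⊓ W = ⊥ := by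
    rw [Submodule.eq_bot_iff]
    intro v hv
    by_contra hv0
    let S : Subrepresentation ρ := ⟨ℂ ∙ v, fun g w hw => by
      obtain ⟨t, rfl⟩ := Submodule.mem_span_singleton.mp hw
      rw [map_smul, hfix v hv g]
      exact Submodule.smul_mem _ _ (Submodule.mem_span_singleton_self v)⟩
    rcases eq_bot_or_eq_top S with h | h
    · refine hv0 ?_
      have : (v : Fin n → ℂ) ∈ S.toSubmodule := Submodule.mem_span_singleton_self v
      rw [h] at this
      exact (Submodule.mem_bot ℂ).mp this
    · refine hχ (funext fun g => ?_)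
      have h1 : ρ g = 1 := LinearMap.ext fun w => by
        have hw : w ∈ S.toSubmodule := by rw [h]; exact Submodule.mem_top
        obtain ⟨t, rfl⟩ := Submodule.mem_span_singleton.mp hw
        rw [map_smul, hfix v hv g]
        rfl
      show ρ.character g = 1
      have hn : finrank ℂ (Fin n → ℂ) = 1 := by
        have hs : S.toSubmodule = ⊤ := by rw [h]; rfl
        rw [← finrank_top, ← hs]
        exact finrank_span_singleton hv0
      rw [character, h1, LinearMap.trace_one, hn, Nat.cast_one]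
  have h1 := Submodule.finrank_sup_add_finrank_inf_eq U V
  have h2 := Submodule.finrank_sup_add_finrank_inf_eq (U ⊓ V) W
  rw [hbot, finrank_bot, add_zero] at h2
  have h3 := Submodule.finrank_le (U ⊔ V)
  have h4 := Submodule.finrank_le (U ⊓ V ⊔ W)
  rw [Module.finrank_fin_fun] at h3 h4
  have hU : finrank ℂ U = finrank ℂ (fixSub ρ B) := finrank_fixSub_conj ρ B a
  have hV : finrank ℂ V = finrank ℂ (fixSub ρ B) := finrank_fixSub_conj ρ B b
  have hW : finrank ℂ W = finrank ℂ (fixSub ρ B) := finrank_fixSub_conj ρ B c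
  omega

end Cfsg.Agent.PairSyl14
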