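import Cfsg.Agent.Powell56.Good
import Cfsg.Agent.Lib.BlocksCore.CyclicPrincipal

/-!
# S3019: two Sylow subgroups generating only `p`-solvable subgroups — interfaces

`Ctx` is the minimal counterexample, `Setup` the closed good abelian `p`-subgroup, `Identity` what
the principal block gives on it.  The pieces are stated as propositions so that they can be proved
in separate files; `Main.lean` assembles them.
-/

set_option autoImplicit false

namespace Cfsg.Agent.PairSyl14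

open Cfsg BlocksCore.CyclicPrincipal

universe u

/-- A minimal counterexample. -/
structure Ctx (p : ℕ) (G : Type u) [Group G] : Prop where
  simple : IsSimpleGroup G
  nonab : ¬ IsMulCommutative G
  dvd : p ∣ Nat.card G
  proper : ∀ H : Subgroup G, H ≠ ⊤ → IsPSolvable p ↥H
  pair : ∀ P Q : Sylow p G, (P : Subgroup G) ⊔ Q ≠ ⊤

/-- `u` lies in `O_{p',p}` of every `p`-solvable subgroup containing it. -/
def Good (p : ℕ) {G : Type u} [Group G] (u : G) : Prop :=
  ∀ (H : Subgroup G) (h : u ∈ H), IsPSolvable p ↥H → (⟨u, h⟩ : ↥H) ∈ pPrimePCore p ↥H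

/-- An abelian `p`-subgroup of good elements, strongly closed in the Sylow subgroups over it. -/
structure Setup (p : ℕ) {G : Type u} [Group G] (B : Subgroup G) : Prop where
  ne_bot : B ≠ ⊥
  le_sylow : ∃ P : Sylow p G, B ≤ (P : Subgroup G)
  comm : ∀ a ∈ B, ∀ b ∈ B, a * b = b * a
  good : ∀ b ∈ B, Good p b
  closed : ∀ P : Sylow p G, B ≤ (P : Subgroup G) → ∀ b ∈ B, ∀ g : G,
    g * b * g⁻¹ ∈ (P : Subgroup G) → g * b * g⁻¹ ∈ B

open scoped Classical in
/-- The sum of the values on a subgroup. -/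
noncomputable def sumB {G : Type u} [Group G] [Fintype G] (B : Subgroup G) (f : G → ℂ) : ℂ :=
  ∑ x ∈ Finset.univ.filter (· ∈ B), f x

/-- What the principal block says about `B`. -/
structure Identity {G : Type u} [Group G] [Fintype G] (M : Ideal AlgInt) (B : Subgroup G) :
    Prop where
  sum_eq : ∀ w ∈ B, w ≠ 1 → ∀ v ∈ B, v ≠ 1 →
    ∑ χ ∈ members M G,
        sumB B (χ : G → ℂ) * (χ : G → ℂ) w * (χ : G → ℂ) v / (χ : G → ℂ) 1 =
      ∑ χ ∈ members M G, sumB B (χ : G → ℂ) * (χ : G → ℂ) w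
  mul_eq : ∀ χ ∈ members M G, ∀ x ∈ B, x ≠ 1 → ∀ v ∈ B, v ≠ 1 → ¬ IsConj x⁻¹ v →
    ∀ a : ℂ, (∀ b ∈ B, b ≠ 1 → (χ : G → ℂ) b = a) → a = a * a / (χ : G → ℂ) 1

/-- Piece A: the subgroup exists. -/
def ExistsSetupStmt : Prop :=
  ∀ (G : Type u) [Group G] [Finite G] (p : ℕ) [Fact p.Prime], Ctx p G →
    ∃ B : Subgroup G, Setup p B

/-- Piece B: `Powell56.false_of_good` for triples inside one class. -/
def SweepStmt : Prop :=
  ∀ (G : Type u) [Group G] [Finite G] (p : ℕ) [Fact p.Prime],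
    IsSimpleGroup G → ¬ IsMulCommutative G → ∀ u₀ : G, (∃ n : ℕ, orderOf u₀ = p ^ n) →
    (∀ g : G, Good p (g * u₀ * g⁻¹)) →
    (∀ a b c : G, IsPSolvable p ↥(Subgroup.closure
      ({a * u₀ * a⁻¹, b * u₀ * b⁻¹, c * u₀ * c⁻¹} : Set G))) →
    (∃ g : G, g * u₀ * g⁻¹ ≠ u₀ ∧
      IsPGroup p ↥(Subgroup.closure ({u₀, g * u₀ * g⁻¹} : Set G))) → False

/-- Piece C: three conjugates generating bound the fixed points. -/
def BoundStmt : Prop :=
  ∀ (G : Type u) [Group G] [Fintype G] (B : Subgroup G) (a b c : G),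
    B.map (MulAut.conj a).toMonoidHom ⊔ B.map (MulAut.conj b).toMonoidHom ⊔
        B.map (MulAut.conj c).toMonoidHom = ⊤ →
    ∀ χ : IrrCharacter G, (χ : G → ℂ) ≠ (fun _ => 1) →
      ∃ m : ℕ, sumB B (χ : G → ℂ) = (Nat.card B : ℂ) * (m : ℂ) ∧
        3 * m ≤ 2 * charDegree (χ : G → ℂ)

/-- Piece D: the identity holds in the principal block. -/
def BlockIdentityStmt : Prop :=
  ∀ (G : Type u) [Group G] [Fintype G] (p : ℕ) [Fact p.Prime] (M : Ideal AlgInt),
    IsPModular p M → Ctx p G → ∀ B : Subgroup G, Setup p B → Identity M B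

/-- Piece E2: two classes on `B` are impossible. -/
def FinishTwoStmt : Prop :=
  ∀ (G : Type u) [Group G] [Fintype G] (p : ℕ) [Fact p.Prime] (M : Ideal AlgInt),
    IsPModular p M → Ctx p G → ∀ B : Subgroup G, Setup p B → Identity M B →
    (∃ x ∈ B, x ≠ 1 ∧ ∃ v ∈ B, v ≠ 1 ∧ ¬ IsConj x⁻¹ v) → False

/-- Piece E1: one class on `B` is impossible, given the bound. -/
def FinishOneStmt : Prop :=
  ∀ (G : Type u) [Group G] [Fintype G] (p : ℕ) [Fact p.Prime] (M : Ideal AlgInt),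
    IsPModular p M → Ctx p G → ∀ B : Subgroup G, Setup p B → Identity M B →
    3 ≤ Nat.card B → (∀ x ∈ B, x ≠ 1 → ∀ v ∈ B, v ≠ 1 → IsConj x v) →
    (∀ χ : IrrCharacter G, (χ : G → ℂ) ≠ (fun _ => 1) →
      ∃ m : ℕ, sumB B (χ : G → ℂ) = (Nat.card B : ℂ) * (m : ℂ) ∧
        3 * m ≤ 2 * charDegree (χ : G → ℂ)) → False

/-- Piece F: the reduction to a minimal counterexample. -/
def ReduceStmt : Prop :=
  (∀ (G : Type u) [Group G] [Finite G] (p : ℕ) [Fact p.Prime], Ctx p G → False) →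
  ∀ (G : Type u) [Group G] [Finite G] (p : ℕ) [Fact p.Prime] (P : Sylow p G),
    IsPSolvable p G ↔ ∀ g : G, IsPSolvable p
      ↥((P : Subgroup G) ⊔ (P : Subgroup G).map (MulAut.conj g).toMonoidHom)

end Cfsg.Agent.PairSyl14
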