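import Cfsg.Agent.PairSyl14.Defs
import Cfsg.Agent.Lib.Thompson.PSolvable
import Cfsg.Agent.Lib.Involution.BaerSuzuki

/-!
# S3019: the criterion for good elements

An element of a Sylow subgroup `Px` lying in `O_{p',p}` of the `p`-solvable subgroups over `Px`
lies in `O_{p',p}` of every `p`-solvable subgroup containing it, in a minimal counterexample.
-/

set_option autoImplicit false
set_option linter.style.haveILetI false

namespace Cfsg.Agent.PairSyl14

open Cfsg

universe u

variable {G : Type u} [Group G] [Finite G] {p : ℕ} [Fact p.Prime]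

/-- A subgroup of `p'`-order normalised by `O_p` of a `p`-solvable group with trivial `O_{p'}`
is trivial. -/
theorem eq_bot_of_normalized {K : Type*} [Group K] [Finite K] (hK : IsPSolvable p K)
    (hO : pPrimeCore p K = ⊥) {M : Subgroup K} (hM : (Nat.card M).Coprime p)
    (hn : pCore p K ≤ Subgroup.normalizer (M : Set K)) : M = ⊥ := by
  haveI hVn : (pCore p K).Normal := Thompson.sSup_normal fun N hN => hN.1
  have hinf : pCore p K ⊓ M = ⊥ :=
    Thompson.inf_eq_bot_of_isPGroup_of_coprime Thompson.isPGroup_pCore hM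
  have hle : M ≤ Subgroup.centralizer (pCore p K : Set K) := by
    intro m hm
    rw [Subgroup.mem_centralizer_iff]
    intro w hw
    have h1 : w * m * w⁻¹ * m⁻¹ ∈ pCore p K ⊓ M := by
      refine Subgroup.mem_inf.mpr ⟨?_, ?_⟩
      · have := (pCore p K).mul_mem hw (hVn.conj_mem _ ((pCore p K).inv_mem hw) m)
        simpa only [mul_assoc] using this
      · exact M.mul_mem ((Subgroup.mem_normalizer_iff.mp (hn hw) m).mp hm) (M.inv_mem hm)
    rw [hinf, Subgroup.mem_bot] at h1
    exact mul_inv_eq_iff_eq_mul.mp (mul_inv_eq_one.mp h1)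
  rw [eq_bot_iff, ← hinf]
  exact le_inf (hle.trans (Thompson.centralizer_pCore_le hK hO)) le_rfl

/-- If `x` lies in `O_{p',p}` of every `p`-solvable subgroup over a Sylow subgroup containing it,
then `x` is good. -/
theorem good_of_forall (hc : Ctx p G) (Px : Sylow p G) {x : G} (hx : x ∈ (Px : Subgroup G))
    (hY : ∀ (Y : Subgroup G), (Px : Subgroup G) ≤ Y → IsPSolvable p ↥Y →
      ∀ h : x ∈ Y, (⟨x, h⟩ : ↥Y) ∈ pPrimePCore p ↥Y) : Good p x := by
  intro H hxH hH
  haveI : (pPrimeCore p ↥H).Normal := Thompson.sSup_normal fun N hN => hN.1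
  set π := QuotientGroup.mk' (pPrimeCore p ↥H) with hπ
  have hπs : Function.Surjective π := QuotientGroup.mk'_surjective _
  set K := ↥H ⧸ pPrimeCore p ↥H
  have hK : IsPSolvable p K := Thompson.isPSolvable_quotient _ hH
  have hO : pPrimeCore p K = ⊥ := Thompson.pPrimeCore_quotient_pPrimeCore
  set xH : ↥H := ⟨x, hxH⟩ with hxHdef
  show π xH ∈ pCore p K
  -- `x` and each conjugate generate a `p`-group in `K`
  have hxp : IsPGroup p ↥(Subgroup.zpowers xH) := by
    refine (Px.2.to_le (Subgroup.zpowers_le.mpr hx)).of_injective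
      ((H.subtype.comp (Subgroup.zpowers xH).subtype).codRestrict (Subgroup.zpowers x) ?_) ?_
    · rintro ⟨y, hy⟩
      obtain ⟨k, rfl⟩ := Subgroup.mem_zpowers_iff.mp hy
      exact Subgroup.mem_zpowers_iff.mpr ⟨k, by simp [hxHdef]⟩
    · intro a b hab
      exact Subtype.ext (Subtype.ext (congrArg Subtype.val hab :))
  have key : ∀ h : ↥H,
      IsPGroup p ↥(Subgroup.zpowers (π xH) ⊔ Subgroup.zpowers (π (h * xH * h⁻¹))) := by
    intro h
    set vH : ↥H := h * xH * h⁻¹ with hvH
    have hvp : IsPGroup p ↥(Subgroup.zpowers vH) := by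
      have : Subgroup.zpowers vH = (Subgroup.zpowers xH).map (MulAut.conj h).toMonoidHom := by
        rw [MonoidHom.map_zpowers]; rfl
      rw [this]
      exact hxp.map _
    obtain ⟨S, hS⟩ := hvp.exists_le_sylow
    have hSP : IsPGroup p ↥((S : Subgroup ↥H).map H.subtype) := S.2.map _
    obtain ⟨P1, hP1⟩ := hSP.exists_le_sylow
    set Y : Subgroup G := (Px : Subgroup G) ⊔ (P1 : Subgroup G) with hYdef
    have hxY : x ∈ Y := Subgroup.mem_sup_left hx
    have hxcore : (⟨x, hxY⟩ : ↥Y) ∈ pPrimePCore p ↥Y :=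
      hY Y le_sup_left (hc.proper Y (hc.pair Px P1)) hxY
    set V := pCore p K with hVdef
    set R : Subgroup ↥H := (S : Subgroup ↥H) ⊓ V.comap π with hR
    have hVR : V ≤ R.map π := by
      intro w hw
      have hw' : w ∈ (S : Subgroup ↥H).map π := by
        have := Thompson.pCore_le_sylow (S.mapSurjective hπs) hw
        simpa [Sylow.coe_mapSurjective] using this
      obtain ⟨s, hs, rfl⟩ := hw'
      exact ⟨s, ⟨hs, hw⟩, rfl⟩
    set X0 : Subgroup ↥H := Subgroup.zpowers xH ⊔ (Subgroup.zpowers vH ⊔ R) with hX0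
    have hX0Y : X0 ≤ Y.comap H.subtype := by
      have hSY : (S : Subgroup ↥H) ≤ Y.comap H.subtype :=
        Subgroup.map_le_iff_le_comap.mp (hP1.trans le_sup_right)
      exact sup_le (Subgroup.zpowers_le.mpr hxY) (sup_le (hS.trans hSY) (inf_le_left.trans hSY))
    have hxX0 : xH ∈ X0 := Subgroup.mem_sup_left (Subgroup.mem_zpowers xH)
    have hvX0 : vH ∈ X0 := Subgroup.mem_sup_right (Subgroup.mem_sup_left (Subgroup.mem_zpowers vH))
    have hxc : (⟨xH, hxX0⟩ : ↥X0) ∈ pPrimePCore p ↥X0 := by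
      refine Powell56.mem_pPrimePCore_of_injective
        ((H.subtype.comp X0.subtype).codRestrict Y fun y => hX0Y y.2) ?_ hxcore
      intro a b hab
      exact Subtype.ext (Subtype.ext (congrArg Subtype.val hab :))
    haveI : (pPrimeCore p ↥X0).Normal := Thompson.sSup_normal fun N hN => hN.1
    haveI : (pCore p (↥X0 ⧸ pPrimeCore p ↥X0)).Normal := Thompson.sSup_normal fun N hN => hN.1
    haveI hQn : (pPrimePCore p ↥X0).Normal :=
      Subgroup.Normal.comap inferInstance (QuotientGroup.mk' (pPrimeCore p ↥X0))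
    set φ : ↥X0 →* K := π.comp X0.subtype with hφ
    have hVφ : V ≤ φ.range := by
      intro w hw
      obtain ⟨r, hr, rfl⟩ := hVR hw
      exact ⟨⟨r, Subgroup.mem_sup_right (Subgroup.mem_sup_right hr)⟩, rfl⟩
    have hM : (pPrimeCore p ↥X0).map φ = ⊥ := by
      refine eq_bot_of_normalized hK hO
        (Thompson.card_pPrimeCore_coprime.coprime_dvd_left (Subgroup.card_map_dvd _ φ))
        (hVφ.trans ?_)
      refine le_trans ?_ (Subgroup.le_normalizer_map φ)
      rw [Subgroup.normalizer_eq_top, ← MonoidHom.range_eq_map]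
    have hN : IsPGroup p ↥((pPrimePCore p ↥X0).map φ) := by
      rintro ⟨_, n, hn, rfl⟩
      obtain ⟨i, hi⟩ := Thompson.isPGroup_pCore (p := p) (G := ↥X0 ⧸ pPrimeCore p ↥X0) ⟨_, hn⟩
      refine ⟨i, Subtype.ext ?_⟩
      show φ n ^ p ^ i = 1
      rw [← map_pow, ← Subgroup.mem_bot, ← hM]
      exact Subgroup.mem_map_of_mem φ
        ((QuotientGroup.eq_one_iff _).1 (congrArg Subtype.val hi))
    have hvN : Subgroup.zpowers (π vH) ≤
        Subgroup.normalizer (((pPrimePCore p ↥X0).map φ : Subgroup K) : Set K) := by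
      refine le_trans ?_ (Subgroup.le_normalizer_map φ)
      rw [Subgroup.normalizer_eq_top, ← MonoidHom.range_eq_map, Subgroup.zpowers_le]
      exact ⟨⟨vH, hvX0⟩, rfl⟩
    have hvp' : IsPGroup p ↥(Subgroup.zpowers (π vH)) := by
      rw [← MonoidHom.map_zpowers]
      exact hvp.map _
    refine (hvp'.to_sup_of_normal_right' hN hvN).to_le (sup_le ?_ le_sup_left)
    exact Subgroup.zpowers_le.mpr
      (Subgroup.mem_sup_right (Subgroup.mem_map_of_mem φ hxc : φ ⟨xH, hxX0⟩ ∈ _))
  -- Baer–Suzuki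
  have hXp : IsPGroup p ↥(Subgroup.zpowers (π xH)) := by
    rw [← MonoidHom.map_zpowers]
    exact hxp.map _
  obtain ⟨N, hN, hNp, hXN⟩ := Involution.baerSuzuki_subgroup (p := p)
    (Subgroup.zpowers (π xH)) (fun g => by
      obtain ⟨h, rfl⟩ := hπs g
      rw [MonoidHom.map_zpowers]
      show IsPGroup p ↥(Subgroup.zpowers (π xH) ⊔ Subgroup.zpowers (π h * π xH * (π h)⁻¹))
      have e : π (h * xH * h⁻¹) = π h * π xH * (π h)⁻¹ := by
        exact (map_mul π _ _).trans (congrArg₂ (· * ·) (map_mul π _ _) (map_inv π _))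
      exact e ▸ key h)
  exact Thompson.le_pCore hN hNp (hXN (Subgroup.mem_zpowers _))

/-- An element central in a Sylow subgroup is good. -/
theorem good_of_central (hc : Ctx p G) (Px : Sylow p G) {x : G} (hx : x ∈ (Px : Subgroup G))
    (hcen : ∀ y ∈ (Px : Subgroup G), x * y = y * x) : Good p x := by
  refine good_of_forall hc Px hx fun Y hle hYs hxY => ?_
  haveI : (pPrimeCore p ↥Y).Normal := Thompson.sSup_normal fun N hN => hN.1
  set π := QuotientGroup.mk' (pPrimeCore p ↥Y) with hπ
  have hπs : Function.Surjective π := QuotientGroup.mk'_surjective _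
  show π ⟨x, hxY⟩ ∈ pCore p (↥Y ⧸ pPrimeCore p ↥Y)
  refine Thompson.centralizer_pCore_le (Thompson.isPSolvable_quotient _ hYs)
    Thompson.pPrimeCore_quotient_pPrimeCore ?_
  rw [Subgroup.mem_centralizer_iff]
  intro w hw
  have hw' : w ∈ ((Px.subtype hle : Sylow p ↥Y) : Subgroup ↥Y).map π := by
    have := Thompson.pCore_le_sylow ((Px.subtype hle).mapSurjective hπs) hw
    simpa [Sylow.coe_mapSurjective] using this
  obtain ⟨y, hy, rfl⟩ := hw'
  rw [← map_mul, ← map_mul]
  congr 1
  exact Subtype.ext (hcen y.1 hy).symm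

end Cfsg.Agent.PairSyl14
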