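import Cfsg.Agent.PairSyl14.Defs
import Cfsg.Agent.PairSyl14.GoodLemma

/-!
# S3019, piece A2: the closed good abelian subgroup
-/

set_option autoImplicit false
set_option linter.style.haveILetI false

namespace Cfsg.Agent.PairSyl14

open Subgroup

variable {p : ℕ} [hp : Fact p.Prime] {G : Type*} [Group G]

/-- `y` is central in some Sylow subgroup. -/
def SylCentral (p : ℕ) {G : Type*} [Group G] (y : G) : Prop :=
  ∃ Q : Sylow p G, y ∈ (Q : Subgroup G) ∧ ∀ z ∈ (Q : Subgroup G), y * z = z * y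

theorem SylCentral.conj {y : G} (h : SylCentral p y) (g : G) : SylCentral p (g * y * g⁻¹) := by
  obtain ⟨Q, hy, hc⟩ := h
  refine ⟨g • Q, ?_, fun z hz => ?_⟩
  · rw [Sylow.coe_subgroup_smul]
    exact ⟨y, hy, rfl⟩
  · rw [Sylow.coe_subgroup_smul] at hz
    obtain ⟨w, hw, rfl⟩ := hz
    show MulAut.conj g y * MulAut.conj g w = MulAut.conj g w * MulAut.conj g y
    rw [← map_mul, ← map_mul, hc w hw]

/-- The elements of `P` central in some Sylow subgroup. -/
def sylCentralSet (P : Sylow p G) : Set G := {y | y ∈ (P : Subgroup G) ∧ SylCentral p y}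

theorem sylCentralSet_smul (P : Sylow p G) (g : G) :
    sylCentralSet (g • P) = MulAut.conj g '' sylCentralSet P := by
  ext y
  constructor
  · rintro ⟨hy, hs⟩
    rw [Sylow.coe_subgroup_smul] at hy
    obtain ⟨w, hw, rfl⟩ := hy
    refine ⟨w, ⟨hw, ?_⟩, rfl⟩
    have h := SylCentral.conj (y := MulAut.conj g w) hs g⁻¹
    simpa [MulAut.conj_apply, mul_assoc] using h
  · rintro ⟨w, ⟨hw, hs⟩, rfl⟩
    refine ⟨?_, hs.conj g⟩
    rw [Sylow.coe_subgroup_smul]
    exact ⟨w, hw, rfl⟩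

variable [Finite G]

theorem sylCentralSet_eq_of_le {P P₁ : Sylow p G}
    (h : sylCentralSet P ⊆ ((P₁ : Subgroup G) : Set G)) : sylCentralSet P₁ = sylCentralSet P := by
  obtain ⟨g, hg⟩ := MulAction.exists_smul_eq G P P₁
  refine (Set.eq_of_subset_of_ncard_le (t := sylCentralSet P₁) (fun y hy => ⟨h hy, hy.2⟩) ?_ (Set.toFinite _)).symm
  rw [← hg, sylCentralSet_smul, Set.ncard_image_of_injective _ (MulAut.conj g).injective]

/-- A normal `p'`-subgroup and a Sylow subgroup meet trivially. -/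
theorem eq_one_of_mem_pPrimeCore {Y : Type*} [Group Y] [Finite Y] (S : Sylow p Y) {x : Y}
    (hx : x ∈ pPrimeCore p Y) (hxS : x ∈ (S : Subgroup Y)) : x = 1 := by
  have h := Thompson.inf_eq_bot_of_isPGroup_of_coprime (p := p) (A := (S : Subgroup Y))
    (B := pPrimeCore p Y) S.2 Thompson.card_pPrimeCore_coprime
  exact Subgroup.mem_bot.1 (h ▸ ⟨hxS, hx⟩)

theorem exists_mem_of_mem_pPrimePCore {Y : Type*} [Group Y] [Finite Y] (S : Sylow p Y) {a : Y}
    (ha : a ∈ pPrimePCore p Y) (hap : IsPGroup p ↥(zpowers a)) :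
    ∃ k ∈ pPrimeCore p Y, k⁻¹ * a * k ∈ (S : Subgroup Y) := by
  haveI : (pPrimeCore p Y).Normal := Thompson.sSup_normal fun N hN => hN.1
  set π := QuotientGroup.mk' (pPrimeCore p Y) with hπ
  have hmem : a ∈ pPrimeCore p Y ⊔ (S : Subgroup Y) := by
    have h1 : π a ∈ (S : Subgroup Y).map π :=
      Thompson.pCore_le_sylow (S.mapSurjective (QuotientGroup.mk'_surjective _)) ha
    have h2 : a ∈ ((S : Subgroup Y).map π).comap π := h1
    rwa [Subgroup.comap_map_eq, hπ, QuotientGroup.ker_mk', sup_comm] at h2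
  set H := pPrimeCore p Y ⊔ (S : Subgroup Y) with hH
  have haH : zpowers a ≤ H := zpowers_le.2 hmem
  have haz : IsPGroup p ↥((zpowers a).subgroupOf H) :=
    hap.of_injective (Subgroup.subgroupOfEquivOfLe haH).toMonoidHom
      (Subgroup.subgroupOfEquivOfLe haH).injective
  obtain ⟨T, hT⟩ := haz.exists_le_sylow
  obtain ⟨h, hh⟩ := MulAction.exists_smul_eq ↥H (S.subtype le_sup_right) T
  have haT : (⟨a, hmem⟩ : ↥H) ∈ (T : Subgroup ↥H) := hT (by
    rw [Subgroup.mem_subgroupOf]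
    exact mem_zpowers a)
  rw [← hh, Sylow.coe_subgroup_smul] at haT
  obtain ⟨s, hs, hsa⟩ := haT
  obtain ⟨k, hk, t, ht, hkt⟩ := Subgroup.mem_sup_of_normal_left.1 h.2
  have hs' : (s : Y) ∈ (S : Subgroup Y) := hs
  have hval : (h : Y) * s * (h : Y)⁻¹ = a := congrArg Subtype.val hsa
  refine ⟨k, hk, ?_⟩
  have : k⁻¹ * a * k = t * (s : Y) * t⁻¹ := by
    rw [← hval, ← hkt]
    group
  rw [this]
  exact mul_mem (mul_mem ht hs') (inv_mem ht)

/-- Two good elements central in Sylow subgroups, in one Sylow subgroup, commute. -/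
theorem sylCentral_commute (hc : Ctx p G) (P : Sylow p G) {u v : G}
    (hgood : ∀ w : G, SylCentral p w → Good p w)
    (hu : u ∈ sylCentralSet P) (hv : v ∈ sylCentralSet P) : u * v = v * u := by
  obtain ⟨huP, Qu, huQ, hucen⟩ := hu
  obtain ⟨hvP, Qv, hvQ, hvcen⟩ := hv
  set Y := (Qu : Subgroup G) ⊔ (Qv : Subgroup G) with hY
  have hYsol := hc.proper Y (hc.pair Qu Qv)
  haveI : (pPrimeCore p ↥Y).Normal := Thompson.sSup_normal fun N hN => hN.1
  set π := QuotientGroup.mk' (pPrimeCore p ↥Y) with hπ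
  set u' : ↥Y := ⟨u, le_sup_left (b := (Qv : Subgroup G)) huQ⟩ with hu'
  set v' : ↥Y := ⟨v, le_sup_right (a := (Qu : Subgroup G)) hvQ⟩ with hv'
  have hv2 : π v' ∈ pCore p (↥Y ⧸ pPrimeCore p ↥Y) :=
    hgood v ⟨Qv, hvQ, hvcen⟩ Y v'.2 hYsol
  obtain ⟨q, hq, hqv⟩ : π v' ∈ ((Qu.subtype le_sup_left : Sylow p ↥Y) : Subgroup ↥Y).map π :=
    Thompson.pCore_le_sylow
      ((Qu.subtype le_sup_left).mapSurjective (QuotientGroup.mk'_surjective _)) hv2
  have hcomm : π u' * π v' = π v' * π u' := by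
    rw [← hqv, ← map_mul, ← map_mul]
    exact congrArg π (Subtype.ext (hucen q.1 hq))
  have hc1 : u' * v' * (v' * u')⁻¹ ∈ pPrimeCore p ↥Y := by
    rw [← QuotientGroup.ker_mk' (pPrimeCore p ↥Y), MonoidHom.mem_ker, map_mul, map_inv, map_mul,
      map_mul, hcomm, mul_inv_cancel]
  obtain ⟨i, hi⟩ := P.2 ⟨u * v * (v * u)⁻¹,
    mul_mem (mul_mem huP hvP) (inv_mem (mul_mem hvP huP))⟩
  have hone : u' * v' * (v' * u')⁻¹ = 1 := by
    refine orderOf_eq_one_iff.1 (Nat.eq_one_of_dvd_coprimes ?_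
      (Subgroup.orderOf_dvd_natCard _ hc1) (orderOf_dvd_of_pow_eq_one (n := p ^ i) ?_))
    · exact (Thompson.card_pPrimeCore_coprime (p := p) (G := ↥Y)).pow_right i
    · have := congrArg Subtype.val hi
      exact Subtype.ext this
  exact congrArg Subtype.val (mul_inv_eq_one.1 hone)

theorem closure_sylCentralSet_closed (hc : Ctx p G) (P : Sylow p G)
    (hgood : ∀ w : G, SylCentral p w → Good p w) {b : G}
    (hb : b ∈ Subgroup.closure (sylCentralSet P)) {g : G}
    (hgb : g * b * g⁻¹ ∈ (P : Subgroup G)) : g * b * g⁻¹ ∈ Subgroup.closure (sylCentralSet P) := by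
  set B := Subgroup.closure (sylCentralSet P) with hB
  have hBP : B ≤ (P : Subgroup G) := (closure_le _).2 fun y hy => hy.1
  set Y := (P : Subgroup G) ⊔ ((g • P : Sylow p G) : Subgroup G) with hY
  have hYsol := hc.proper Y (hc.pair P (g • P))
  haveI : (pPrimeCore p ↥Y).Normal := Thompson.sSup_normal fun N hN => hN.1
  set π := QuotientGroup.mk' (pPrimeCore p ↥Y) with hπ
  set S := P.subtype (le_sup_left : (P : Subgroup G) ≤ Y) with hS
  set M := (B.subgroupOf Y).map π with hM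
  have key : B.map (MulAut.conj g).toMonoidHom ≤ (M.comap π).map Y.subtype := by
    rw [hB, MonoidHom.map_closure, closure_le]
    rintro _ ⟨y, hy, rfl⟩
    have hyQ : g * y * g⁻¹ ∈ ((g • P : Sylow p G) : Subgroup G) := by
      rw [Sylow.coe_subgroup_smul]
      exact ⟨y, hy.1, rfl⟩
    have hay : SylCentral p (g * y * g⁻¹) := hy.2.conj g
    have haY : g * y * g⁻¹ ∈ Y := le_sup_right (a := (P : Subgroup G)) hyQ
    have hap : IsPGroup p ↥(zpowers (⟨g * y * g⁻¹, haY⟩ : ↥Y)) :=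
      ((g • P).subtype le_sup_right : Sylow p ↥Y).2.to_le (zpowers_le.2 (by exact hyQ))
    obtain ⟨k, hk, hq⟩ := exists_mem_of_mem_pPrimePCore S (hgood _ hay Y haY hYsol) hap
    refine ⟨⟨g * y * g⁻¹, haY⟩, ?_, rfl⟩
    show π ⟨g * y * g⁻¹, haY⟩ ∈ M
    refine ⟨k⁻¹ * ⟨g * y * g⁻¹, haY⟩ * k, ?_, ?_⟩
    · show ((k⁻¹ * ⟨g * y * g⁻¹, haY⟩ * k : ↥Y) : G) ∈ B
      refine subset_closure ⟨hq, ?_⟩
      have := hay.conj (k : G)⁻¹
      rw [inv_inv] at this
      exact this
    · have hk1 : π k = 1 := (QuotientGroup.eq_one_iff _).2 hk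
      rw [map_mul, map_mul, map_inv, hk1, inv_one, one_mul, mul_one]
  obtain ⟨c, ⟨b', hb', hbc⟩, hcval⟩ := key ⟨b, hb, rfl⟩
  have hcS : c ∈ (S : Subgroup ↥Y) := by
    show (c : G) ∈ (P : Subgroup G)
    have : (c : G) = g * b * g⁻¹ := hcval
    rw [this]
    exact hgb
  have hb'S : b' ∈ (S : Subgroup ↥Y) := hBP hb'
  have h1 : b'⁻¹ * c ∈ pPrimeCore p ↥Y := QuotientGroup.eq.1 hbc
  have h2 := eq_one_of_mem_pPrimeCore S h1 (mul_mem (inv_mem hb'S) hcS)
  have h3 : b' = c := inv_mul_eq_one.1 h2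
  have h4 : (b' : G) ∈ B := hb'
  rw [h3] at h4
  have : (c : G) = g * b * g⁻¹ := hcval
  rwa [this] at h4

theorem exists_setup_of (hc : Ctx p G)
    (hgood : ∀ w : G, SylCentral p w → Good p w)
    (hall : ∀ (Px : Sylow p G) {x : G}, x ∈ (Px : Subgroup G) →
      (∀ Y : Subgroup G, (Px : Subgroup G) ≤ Y → IsPSolvable p ↥Y →
        ∀ h : x ∈ Y, (⟨x, h⟩ : ↥Y) ∈ pPrimePCore p ↥Y) → Good p x) :
    ∃ B : Subgroup G, Setup p B := by
  obtain ⟨P⟩ := (inferInstance : Nonempty (Sylow p G))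
  set B := Subgroup.closure (sylCentralSet P) with hB
  refine ⟨B, ?_, ⟨P, (closure_le _).2 fun y hy => hy.1⟩, ?_, ?_, ?_⟩
  · have hne : (P : Subgroup G) ≠ ⊥ := by
      intro h
      have h1 := P.dvd_card_of_dvd_card hc.dvd
      rw [h, card_bot] at h1
      exact hp.out.not_dvd_one h1
    haveI : Nontrivial ↥(P : Subgroup G) := (nontrivial_iff_ne_bot _).2 hne
    haveI := IsPGroup.center_nontrivial P.2
    obtain ⟨z, hz⟩ := exists_ne (1 : ↥(center ↥(P : Subgroup G)))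
    intro h
    refine hz (Subtype.ext (Subtype.ext ?_))
    refine (Subgroup.closure_eq_bot_iff.1 h)
      ⟨(z.1).2, P, (z.1).2, fun w hw => ?_⟩
    exact (congrArg Subtype.val (mem_center_iff.1 z.2 ⟨w, hw⟩)).symm
  · intro a ha b hb
    have hcen : Subgroup.closure (sylCentralSet P) ≤ centralizer (sylCentralSet P) :=
      (closure_le _).2 fun u hu => mem_centralizer_iff.2 fun v hv =>
        sylCentral_commute hc P hgood hv hu
    exact (mem_centralizer_iff.1
      ((closure_le (centralizer (B : Set G))).2 (fun u hu => mem_centralizer_iff.2 fun v hv =>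
        (mem_centralizer_iff.1 (hcen hv) u hu).symm) ha) b hb).symm
  · intro b hb
    refine hall P ((closure_le _).2 (fun y hy => hy.1) hb) fun Y hPY hY h => ?_
    have hle : B ≤ (pPrimePCore p ↥Y).map Y.subtype :=
      (closure_le _).2 fun y hy => ⟨⟨y, hPY hy.1⟩, hgood y hy.2 Y _ hY, rfl⟩
    obtain ⟨c, hcY, hcb⟩ := hle hb
    have : c = ⟨b, h⟩ := Subtype.ext hcb
    exact this ▸ hcY
  · intro P₁ hP₁ b hb g hgb
    have heq := sylCentralSet_eq_of_le (P := P) (P₁ := P₁) fun y hy => hP₁ (subset_closure hy)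
    have := closure_sylCentralSet_closed hc P₁ hgood (b := b) (g := g) (by rw [heq]; exact hb) hgb
    rwa [heq] at this

universe u

/-- Piece A. -/
theorem existsSetup : ExistsSetupStmt.{u} := by
  intro G _ _ p _ hc
  exact exists_setup_of hc
    (fun w ⟨Q, hwQ, hcen⟩ => good_of_central hc Q hwQ hcen)
    (fun Px _ hx hY => good_of_forall hc Px hx hY)

end Cfsg.Agent.PairSyl14
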