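import Cfsg.Agent.PairSyl14.Defs
import Cfsg.Agent.Lib.BlocksCore.WeakOrth
import Mathlib.RingTheory.Localization.Integral

/-!
# S3019: one class on `B` is impossible

Every member of the principal block is an integer `a` on `B#`.  The identity and weak
orthogonality give `∑ [(q - 2) a² - (q - 1) a³ / d] = 0`; the trivial character contributes `-1`,
the fixed point bound makes every other term nonnegative, and one of them exceeds `1`.
-/

set_option autoImplicit false
set_option linter.style.haveILetI false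

namespace Cfsg.Agent.PairSyl14

open Cfsg BlocksCore.CyclicPrincipal

universe u

namespace FinishOneAux

variable {G : Type u} [Group G] [Fintype G]

theorem sumB_eq_of_const (B : Subgroup G) (f : G → ℂ) (a : ℂ) (h : ∀ b ∈ B, b ≠ 1 → f b = a) :
    sumB B f = f 1 + ((Nat.card B : ℂ) - 1) * a := by
  classical
  have h1 : (1 : G) ∈ Finset.univ.filter (· ∈ B) := by simp
  have hc : (Finset.univ.filter (· ∈ B)).card = Nat.card B := by
    rw [Nat.card_eq_fintype_card, ← Fintype.card_subtype]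
  rw [sumB, ← Finset.add_sum_erase _ _ h1, Finset.sum_congr rfl (fun b hb => h b
    (Finset.mem_filter.mp (Finset.mem_of_mem_erase hb)).2 (Finset.ne_of_mem_erase hb)),
    Finset.sum_const, Finset.card_erase_of_mem h1, hc, nsmul_eq_mul,
    Nat.cast_sub Nat.card_pos, Nat.cast_one]

theorem exists_int_of_rat {z : ℂ} (hz : IsIntegral ℤ z) {r : ℚ} (hr : (r : ℂ) = z) :
    ∃ k : ℤ, (k : ℂ) = z := by
  subst hr
  have h : IsIntegral ℤ r := by
    refine (isIntegral_algHom_iff ((algebraMap ℚ ℂ).toIntAlgHom) (algebraMap ℚ ℂ).injective).mp ?_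
    simpa using hz
  obtain ⟨k, hk⟩ := IsIntegrallyClosed.isIntegral_iff.mp h
  exact ⟨k, by rw [← hk]; simp⟩

end FinishOneAux

open FinishOneAux in
/-- One class on `B` is impossible, given the bound. -/
theorem finishOne : FinishOneStmt.{u} := by
  intro G _ _ p hp M hM hc B hS hI hq hconj hbd
  classical
  haveI := BlocksCore.isPrime hM
  obtain ⟨x, hxB, hx1⟩ : ∃ x ∈ B, x ≠ 1 := by
    by_contra h
    push Not at h
    exact hS.ne_bot ((Subgroup.eq_bot_iff_forall _).mpr h)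
  have hconst : ∀ χ : IrrCharacter G, ∀ b ∈ B, b ≠ 1 → (χ : G → ℂ) b = (χ : G → ℂ) x := by
    intro χ b hb hb1
    obtain ⟨g, hg⟩ := isConj_iff.mp (hconj x hxB hx1 b hb hb1)
    rw [← hg]
    exact BlocksCore.irr_class χ x g
  set q : ℕ := Nat.card B with hqdef
  let one : IrrCharacter G := ⟨fun _ => 1, CharCore.isIrrCharacter_one⟩
  have hone : one ∈ members M G := mem_members.mpr (BlocksCore.mem_blockOf_self one)
  -- integrality of the value on `B#`
  have hint : ∀ χ : IrrCharacter G, χ ≠ one →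
      ∃ k : ℤ, (k : ℂ) = (χ : G → ℂ) x ∧
        ((q : ℤ) - 1) * k ≤ ((q : ℤ) - 2) * (charDegree (χ : G → ℂ) : ℤ) := by
    intro χ hne
    obtain ⟨m, hm, hmd⟩ := hbd χ (fun h => hne (Subtype.ext h))
    rw [sumB_eq_of_const B _ _ (hconst χ), BlocksCore.irr_one_eq, ← hqdef] at hm
    set d := charDegree (χ : G → ℂ) with hd
    have hq1 : (q : ℂ) - 1 ≠ 0 := by
      rw [sub_ne_zero]
      exact_mod_cast (by omega : q ≠ 1)
    have hr : ((((q : ℚ) * m - d) / ((q : ℚ) - 1) : ℚ) : ℂ) = (χ : G → ℂ) x := by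
      push_cast
      rw [div_eq_iff hq1]
      linear_combination -hm
    obtain ⟨k, hk⟩ := exists_int_of_rat (BlocksCore.isIntegral_irr χ x) hr
    refine ⟨k, hk, ?_⟩
    have hkZ : (d : ℤ) + ((q : ℤ) - 1) * k = q * m := by
      have : (((d : ℤ) + ((q : ℤ) - 1) * k : ℤ) : ℂ) = ((q * m : ℤ) : ℂ) := by
        push_cast
        rw [hk]
        exact hm
      exact_mod_cast this
    have h3 : 3 * (m : ℤ) ≤ 2 * d := by exact_mod_cast hmd
    have hq3 : (3 : ℤ) ≤ q := by exact_mod_cast hq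
    nlinarith [mul_le_mul_of_nonneg_left h3 (by linarith : (0 : ℤ) ≤ q),
      mul_nonneg (by linarith : (0 : ℤ) ≤ (q : ℤ) - 3) (Int.natCast_nonneg d)]
  have hintall : ∀ χ : IrrCharacter G, ∃ k : ℤ, (k : ℂ) = (χ : G → ℂ) x := by
    intro χ
    by_cases h : χ = one
    · exact ⟨1, by rw [h]; simp [one]⟩
    · obtain ⟨k, hk, -⟩ := hint χ h
      exact ⟨k, hk⟩
  choose k hk using hintall
  have hkle : ∀ χ, χ ≠ one →
      ((q : ℝ) - 1) * (k χ : ℝ) ≤ ((q : ℝ) - 2) * (charDegree (χ : G → ℂ) : ℝ) := by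
    intro χ hne
    obtain ⟨k', hk', hle⟩ := hint χ hne
    have : k' = k χ := by exact_mod_cast hk'.trans (hk χ).symm
    rw [this] at hle
    exact_mod_cast hle
  have hk1 : k one = 1 := by exact_mod_cast (hk one).trans (show (one : G → ℂ) x = ((1 : ℤ) : ℂ) by simp [one])
  have hd1 : charDegree (one : G → ℂ) = 1 := by simp [one, charDegree]
  -- weak orthogonality
  have hpx : p ∣ orderOf x := by
    obtain ⟨P, hBP⟩ := hS.le_sylow
    obtain ⟨i, hi⟩ := P.isPGroup' ⟨x, hBP hxB⟩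
    have ho : orderOf x ∣ p ^ i :=
      orderOf_dvd_of_pow_eq_one (by simpa using congrArg Subtype.val hi)
    obtain ⟨j, -, hj⟩ := (Nat.dvd_prime_pow hp.out).mp ho
    rcases j with _ | j
    · exact absurd (orderOf_eq_one_iff.mp (by simpa using hj)) hx1
    · exact hj ▸ dvd_pow_self p j.succ_ne_zero
  have horth : ∑ χ ∈ members M G, (charDegree (χ : G → ℂ) : ℝ) * (k χ : ℝ) = 0 := by
    have h := BlocksCore.weakOrth hM (B := principalBlock M G) ⟨one, rfl⟩ (x := 1) (y := x)
      (by rw [orderOf_one]; exact hp.out.not_dvd_one) hpx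
    rw [finsum_mem_eq_sum_of_inter_support_eq _ (t := members M G) (by
      ext χ; simp [mem_members])] at h
    have h' : ((∑ χ ∈ members M G, (charDegree (χ : G → ℂ) : ℝ) * (k χ : ℝ) : ℝ) : ℂ) = 0 := by
      push_cast
      rw [← h]
      refine Finset.sum_congr rfl fun χ _ => ?_
      rw [← hk χ, map_intCast, BlocksCore.irr_one_eq]
    exact_mod_cast h'
  -- the identity
  let F : IrrCharacter G → ℝ := fun χ => ((q : ℝ) - 2) * (k χ : ℝ) ^ 2
    - ((q : ℝ) - 1) * (k χ : ℝ) ^ 3 / (charDegree (χ : G → ℂ) : ℝ)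
  have hF : ∑ χ ∈ members M G, F χ = 0 := by
    have h := hI.sum_eq x hxB hx1 x hxB hx1
    have h' : ((∑ χ ∈ members M G, (F χ + (charDegree (χ : G → ℂ) : ℝ) * (k χ : ℝ)) : ℝ) : ℂ)
        = 0 := by
      rw [eq_comm, ← sub_eq_zero, ← Finset.sum_sub_distrib] at h
      push_cast
      rw [← h]
      refine Finset.sum_congr rfl fun χ _ => ?_
      have hd0 : (charDegree (χ : G → ℂ) : ℂ) ≠ 0 :=
        Nat.cast_ne_zero.mpr (BlocksCore.charDegree_pos χ).ne'
      rw [sumB_eq_of_const B _ _ (hconst χ), ← hk χ, BlocksCore.irr_one_eq, ← hqdef]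
      simp only [F]
      push_cast
      field_simp
      ring
    have h2 : ∑ χ ∈ members M G, (F χ + (charDegree (χ : G → ℂ) : ℝ) * (k χ : ℝ)) = 0 := by
      exact_mod_cast h'
    rw [Finset.sum_add_distrib, horth, add_zero] at h2
    exact h2
  have hqR : (3 : ℝ) ≤ q := by exact_mod_cast hq
  have hFone : F one = -1 := by
    simp only [F, hk1, hd1]
    push_cast
    ring
  have hpos : ∀ χ : IrrCharacter G, (0 : ℝ) < (charDegree (χ : G → ℂ) : ℝ) :=
    fun χ => Nat.cast_pos.mpr (BlocksCore.charDegree_pos χ)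
  have hFnonneg : ∀ χ, χ ≠ one → 0 ≤ F χ := by
    intro χ hne
    have heq : F χ = (k χ : ℝ) ^ 2 * ((((q : ℝ) - 2) * (charDegree (χ : G → ℂ) : ℝ)
        - ((q : ℝ) - 1) * (k χ : ℝ)) / (charDegree (χ : G → ℂ) : ℝ)) := by
      simp only [F]
      field_simp [(hpos χ).ne']
    rw [heq]
    exact mul_nonneg (sq_nonneg _) (div_nonneg (sub_nonneg.mpr (hkle χ hne)) (hpos χ).le)
  obtain ⟨ψ, hψ, hψneg⟩ : ∃ ψ ∈ (members M G).erase one, k ψ ≤ -1 := by
    by_contra hcon
    push Not at hcon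
    have hnn : (0 : ℝ) ≤ ∑ χ ∈ (members M G).erase one,
        (charDegree (χ : G → ℂ) : ℝ) * (k χ : ℝ) :=
      Finset.sum_nonneg fun χ hχ => mul_nonneg (hpos χ).le (by
        exact_mod_cast (show (0 : ℤ) ≤ k χ by have := hcon χ hχ; omega))
    rw [← Finset.add_sum_erase _ _ hone, hk1, hd1] at horth
    push_cast at horth
    linarith
  have hψ1 : 1 < F ψ := by
    have hkR : (k ψ : ℝ) ≤ -1 := by exact_mod_cast hψneg
    have h3 : 0 < -(((q : ℝ) - 1) * (k ψ : ℝ) ^ 3 / (charDegree (ψ : G → ℂ) : ℝ)) := by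
      rw [← neg_div]
      refine div_pos ?_ (hpos ψ)
      have : (k ψ : ℝ) ^ 3 < 0 := Odd.pow_neg ⟨1, rfl⟩ (by linarith)
      nlinarith
    have h2 : 1 ≤ ((q : ℝ) - 2) * (k ψ : ℝ) ^ 2 := by nlinarith
    simp only [F]
    linarith
  rw [← Finset.add_sum_erase _ _ hone, hFone] at hF
  have hge : F ψ ≤ ∑ χ ∈ (members M G).erase one, F χ :=
    Finset.single_le_sum (fun χ hχ => hFnonneg χ (Finset.ne_of_mem_erase hχ)) hψ
  linarith

end Cfsg.Agent.PairSyl14
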