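import Cfsg.Agent.PairSyl14.Defs
import Cfsg.Agent.Lib.BlocksCore.WeakOrth
import Cfsg.Agent.Lib.BlocksDefect.PrincipalSection
import Cfsg.Agent.Lib.CharCore.Linear
import Cfsg.Agent.Lib.CharCore.Virtual
import Cfsg.Agent.Lib.CharClifford.Separation

/-!
# S3019: two classes on `B` are impossible
-/

set_option autoImplicit false
set_option linter.style.haveILetI false

namespace Cfsg.Agent.PairSyl14

open Cfsg BlocksCore.CyclicPrincipal
open scoped ComplexConjugate

universe u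

section

variable {G : Type u} [Group G] [Fintype G]

open scoped Classical in
theorem sumB_eq_sum_subtype (B : Subgroup G) [Fintype B] (f : G → ℂ) :
    sumB B f = ∑ b : B, f b :=
  Finset.sum_subtype _ (by simp) _

/-- The sum over `B` is `|B|` times a natural number. -/
theorem exists_sumB_eq (B : Subgroup G) (χ : IrrCharacter G) :
    ∃ k : ℕ, sumB B (χ : G → ℂ) = (Nat.card B : ℂ) * (k : ℂ) := by
  classical
  haveI : Fintype B := Fintype.ofFinite _
  obtain ⟨k, hk⟩ := CharCore.IsCharacter.exists_classInner_eq_natCast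
    (CharCore.isCharacter_restrict (CharCore.irr_isCharacter χ) B) (CharCore.isCharacter_one (G := B))
  refine ⟨k, ?_⟩
  rw [← hk, sumB_eq_sum_subtype, classInner, ← mul_assoc,
    mul_inv_cancel₀ (Nat.cast_ne_zero.2 Nat.card_pos.ne'), one_mul]
  simp

end

/-- `FinishTwoStmt`. -/
theorem finishTwo : FinishTwoStmt.{u} := by
  intro G _ _ p _ M hM hctx B hB hI htwo
  classical
  haveI := BlocksCore.isPrime hM
  haveI : Fintype B := Fintype.ofFinite _
  haveI := hctx.simple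
  set q : ℂ := (Nat.card B : ℂ) with hqdef
  have hq0 : q ≠ 0 := Nat.cast_ne_zero.2 Nat.card_pos.ne'
  choose m hm using exists_sumB_eq B
  set d : IrrCharacter G → ℕ := fun χ => charDegree (χ : G → ℂ) with hddef
  have hd : ∀ χ : IrrCharacter G, (χ : G → ℂ) 1 = (d χ : ℂ) ∧ 0 < d χ := fun χ => by
    obtain ⟨k, hk0, hk⟩ := CharCore.IsIrrCharacter.exists_degree χ.2
    have : d χ = k := by simp [hddef, charDegree, hk]
    rw [this]
    exact ⟨hk, hk0⟩
  set S := members M G with hSdef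
  -- the two forms
  set R : G → ℂ := fun w => ∑ χ ∈ S, sumB B (χ : G → ℂ) * (χ : G → ℂ) w with hRdef
  set L : G → G → ℂ := fun w v => ∑ χ ∈ S,
    sumB B (χ : G → ℂ) * (χ : G → ℂ) w * (χ : G → ℂ) v / (χ : G → ℂ) 1 with hLdef
  have hLR : ∀ w ∈ B, w ≠ 1 → ∀ v ∈ B, v ≠ 1 → L w v = R w := hI.sum_eq
  have hLsymm : ∀ w v, L w v = L v w := fun w v =>
    Finset.sum_congr rfl fun χ _ => by ring
  have hRconst : ∀ w ∈ B, w ≠ 1 → ∀ v ∈ B, v ≠ 1 → R w = R v := fun w hw hw1 v hv hv1 => by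
    rw [← hLR w hw hw1 v hv hv1, hLsymm, hLR v hv hv1 w hw hw1]
  -- characters with fixed points are constant on `B`
  have hconst : ∀ χ ∈ S, m χ ≠ 0 → ∀ w ∈ B, w ≠ 1 → ∀ v ∈ B, v ≠ 1 →
      (χ : G → ℂ) w = (χ : G → ℂ) v := by
    intro χ hχ hmχ w hw hw1 v hv hv1
    have hw' : w⁻¹ ∈ B ∧ w⁻¹ ≠ 1 := ⟨B.inv_mem hw, inv_ne_one.2 hw1⟩
    have hv' : v⁻¹ ∈ B ∧ v⁻¹ ≠ 1 := ⟨B.inv_mem hv, inv_ne_one.2 hv1⟩
    have h0 : ∑ ψ ∈ S, ((Nat.card B : ℝ) * (m ψ : ℝ) / (d ψ : ℝ) *
        Complex.normSq ((ψ : G → ℂ) w - (ψ : G → ℂ) v) : ℝ) = 0 := by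
      rw [← Complex.ofReal_eq_zero, Complex.ofReal_sum]
      have e : ∀ ψ ∈ S, (((Nat.card B : ℝ) * (m ψ : ℝ) / (d ψ : ℝ) *
          Complex.normSq ((ψ : G → ℂ) w - (ψ : G → ℂ) v) : ℝ) : ℂ) =
          sumB B (ψ : G → ℂ) * (ψ : G → ℂ) w * (ψ : G → ℂ) w⁻¹ / (ψ : G → ℂ) 1 -
          sumB B (ψ : G → ℂ) * (ψ : G → ℂ) w * (ψ : G → ℂ) v⁻¹ / (ψ : G → ℂ) 1 -
          sumB B (ψ : G → ℂ) * (ψ : G → ℂ) v * (ψ : G → ℂ) w⁻¹ / (ψ : G → ℂ) 1 +
          sumB B (ψ : G → ℂ) * (ψ : G → ℂ) v * (ψ : G → ℂ) v⁻¹ / (ψ : G → ℂ) 1 := by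
        intro ψ _
        rw [Complex.ofReal_mul, ← Complex.mul_conj, map_sub,
          ← CharCore.irr_apply_inv, ← CharCore.irr_apply_inv, hm, (hd ψ).1]
        push_cast
        ring
      rw [Finset.sum_congr rfl e, Finset.sum_add_distrib, Finset.sum_sub_distrib,
        Finset.sum_sub_distrib]
      show L w w⁻¹ - L w v⁻¹ - L v w⁻¹ + L v v⁻¹ = 0
      rw [hLR w hw hw1 _ hw'.1 hw'.2, hLR w hw hw1 _ hv'.1 hv'.2, hLR v hv hv1 _ hw'.1 hw'.2,
        hLR v hv hv1 _ hv'.1 hv'.2, hRconst v hv hv1 w hw hw1]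
      ring
    have h1 := (Finset.sum_eq_zero_iff_of_nonneg fun ψ _ => mul_nonneg (div_nonneg
      (mul_nonneg (Nat.cast_nonneg _) (Nat.cast_nonneg _)) (Nat.cast_nonneg _))
      (Complex.normSq_nonneg _)).1 h0 χ hχ
    have hc : (0 : ℝ) < (Nat.card B : ℝ) * (m χ : ℝ) / (d χ : ℝ) := by
      have h1 : (0 : ℝ) < Nat.card B := Nat.cast_pos.2 Nat.card_pos
      have h2 : (0 : ℝ) < m χ := Nat.cast_pos.2 (Nat.pos_of_ne_zero hmχ)
      have h3 : (0 : ℝ) < d χ := Nat.cast_pos.2 (hd χ).2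
      positivity
    exact sub_eq_zero.1 (Complex.normSq_eq_zero.1
      ((mul_eq_zero.1 h1).resolve_left hc.ne'))
  -- and vanish there, apart from the trivial one
  obtain ⟨x, hx, hx1, v₀, hv₀, hv₀1, hnc⟩ := htwo
  have hvan : ∀ χ ∈ S, (χ : G → ℂ) ≠ (fun _ => 1) → m χ ≠ 0 → ∀ b ∈ B, b ≠ 1 →
      (χ : G → ℂ) b = 0 := by
    intro χ hχ hne hmχ b hb hb1
    have ha : ∀ c ∈ B, c ≠ 1 → (χ : G → ℂ) c = (χ : G → ℂ) b := fun c hc hc1 =>
      hconst χ hχ hmχ c hc hc1 b hb hb1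
    have he := hI.mul_eq χ hχ x hx hx1 v₀ hv₀ hv₀1 hnc _ ha
    have hd0 : (χ : G → ℂ) 1 ≠ 0 := CharCore.irr_apply_one_ne_zero χ
    rw [eq_div_iff hd0] at he
    rcases eq_or_ne ((χ : G → ℂ) b) 0 with h | h
    · exact h
    exfalso
    have hbk : (χ : G → ℂ) b = (χ : G → ℂ) 1 := (mul_left_cancel₀ h he).symm
    have hK := (CharCore.charKernel_normal (CharCore.irr_isCharacter χ)).eq_bot_or_eq_top
    rcases hK with hK | hK
    · have : b ∈ CharCore.charKernel (CharCore.irr_isCharacter χ) := hbk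
      rw [hK, Subgroup.mem_bot] at this
      exact hb1 this
    · refine hne ?_
      have hall : ∀ g, (χ : G → ℂ) g = (χ : G → ℂ) 1 := fun g =>
        (CharCore.mem_charKernel (CharCore.irr_isCharacter χ) g).1 (hK ▸ Subgroup.mem_top g)
      have h1 : (d χ : ℂ) * (d χ : ℂ) = 1 := by
        have h := CharCore.classInner_irr_self χ
        rw [classInner] at h
        simp only [hall, (hd χ).1, Complex.conj_natCast, Finset.sum_const, Finset.card_univ,
          nsmul_eq_mul, ← Nat.card_eq_fintype_card] at h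
        rwa [← mul_assoc, inv_mul_cancel₀ (Nat.cast_ne_zero.2 Nat.card_pos.ne'), one_mul] at h
      have h2 : d χ = 1 := Nat.eq_one_of_mul_eq_one_right (by exact_mod_cast h1)
      funext g
      rw [hall, (hd χ).1, h2, Nat.cast_one]
  -- weak orthogonality
  obtain ⟨P, hBP⟩ := hB.le_sylow
  have hcol : ∀ b ∈ B, b ≠ 1 → ∑ χ ∈ S, (χ : G → ℂ) 1 * (χ : G → ℂ) b = 0 := by
    intro b hb hb1
    have hdvd : p ∣ orderOf b⁻¹ := by
      obtain ⟨k, hk⟩ := IsPGroup.iff_orderOf.1 P.isPGroup' ⟨b⁻¹, hBP (B.inv_mem hb)⟩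
      rw [Subgroup.orderOf_mk] at hk
      rcases k with _ | k
      · exact absurd (inv_eq_one.1 (orderOf_eq_one_iff.1 (hk.trans (pow_zero p)))) hb1
      · exact hk ▸ dvd_pow_self p k.succ_ne_zero
    have h := BlocksCore.weakOrth hM (BlocksDefect.isPBlock_principal (G := G)) (x := 1)
      (by rw [orderOf_one]; exact fun h => (Fact.out : p.Prime).ne_one (Nat.dvd_one.1 h)) hdvd
    rw [finsum_mem_eq_sum_of_inter_support_eq _ (t := S)
      (by ext χ; simp [hSdef, mem_members])] at h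
    rw [← h]
    exact Finset.sum_congr rfl fun χ _ => by
      rw [← CharCore.irr_apply_inv, inv_inv]
  set T := BlocksDefect.oneIrr G with hTdef
  have hT1 : ∀ g, (T : G → ℂ) g = 1 := fun g => rfl
  have hTS : T ∈ S := by
    rw [hSdef, mem_members]
    exact BlocksDefect.oneIrr_mem
  have hmT : m T = 1 := by
    have h := hm T
    rw [sumB_eq_sum_subtype] at h
    simp only [hT1, Finset.sum_const, Finset.card_univ, nsmul_eq_mul, mul_one,
      ← Nat.card_eq_fintype_card] at h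
    rw [← hqdef] at h
    exact_mod_cast (mul_left_cancel₀ hq0 ((mul_one q).trans h)).symm
  set Q := S.filter fun χ => m χ = 0 with hQdef
  have hQB : ∀ b ∈ B, b ≠ 1 → ∑ χ ∈ Q, (χ : G → ℂ) 1 * (χ : G → ℂ) b = -1 := by
    intro b hb hb1
    have h := hcol b hb hb1
    rw [← Finset.sum_filter_add_sum_filter_not S (fun χ => m χ = 0), ← hQdef] at h
    have he : ∑ χ ∈ S.filter (fun χ => ¬ m χ = 0), (χ : G → ℂ) 1 * (χ : G → ℂ) b = 1 := by
      rw [Finset.sum_eq_single T]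
      · rw [hT1, hT1, one_mul]
      · intro χ hχ hne
        obtain ⟨hχS, hmχ⟩ := Finset.mem_filter.1 hχ
        rw [hvan χ hχS (fun e => hne (Subtype.ext (e.trans (funext fun g => (hT1 g).symm))))
          hmχ b hb hb1, mul_zero]
      · exact fun h => absurd (Finset.mem_filter.2 ⟨hTS, by rw [hmT]; exact one_ne_zero⟩) h
    rw [he] at h
    exact eq_neg_of_add_eq_zero_left h
  have hQsum : ∀ χ ∈ Q, ∑ b : B, (χ : G → ℂ) b = 0 := fun χ hχ => by
    rw [← sumB_eq_sum_subtype, hm, (Finset.mem_filter.1 hχ).2, Nat.cast_zero, mul_zero]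
  -- weighted sums over `B`
  have key : ∀ f : B → ℂ, ∑ b : B, (∑ χ ∈ Q, (χ : G → ℂ) 1 * (χ : G → ℂ) b) * f b =
      ((∑ χ ∈ Q, (χ : G → ℂ) 1 * (χ : G → ℂ) 1) + 1) * f 1 - ∑ b : B, f b := by
    intro f
    rw [← Finset.add_sum_erase _ _ (Finset.mem_univ (1 : B)),
      ← Finset.add_sum_erase _ (fun b => f b) (Finset.mem_univ (1 : B))]
    have : ∑ b ∈ Finset.univ.erase (1 : B), (∑ χ ∈ Q, (χ : G → ℂ) 1 * (χ : G → ℂ) b) * f b =
        - ∑ b ∈ Finset.univ.erase (1 : B), f b := by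
      rw [← Finset.sum_neg_distrib]
      refine Finset.sum_congr rfl fun b hb => ?_
      rw [hQB b b.2 (fun e => (Finset.mem_erase.1 hb).1 (Subtype.ext e)), neg_one_mul]
    rw [this, OneMemClass.coe_one]
    ring
  set W := ∑ χ ∈ Q, (χ : G → ℂ) 1 * (χ : G → ℂ) 1 with hWdef
  have hW : W + 1 = q := by
    have h := key fun _ => 1
    simp only [mul_one] at h
    rw [Finset.sum_comm] at h
    rw [Finset.sum_eq_zero fun χ hχ => by
      rw [← Finset.mul_sum, hQsum χ hχ, mul_zero]] at h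
    simp only [Finset.sum_const, Finset.card_univ, nsmul_eq_mul, mul_one,
      ← Nat.card_eq_fintype_card] at h
    linear_combination -h
  obtain ⟨χ₁, hχ₁⟩ : Q.Nonempty := by
    by_contra h
    rw [Finset.not_nonempty_iff_eq_empty] at h
    rw [hWdef, h, Finset.sum_empty, zero_add, hqdef] at hW
    exact hB.ne_bot (Subgroup.card_eq_one.1 (by exact_mod_cast hW.symm))
  -- the inner products on `B`
  have hn : ∀ χ : IrrCharacter G, ∃ k : ℕ,
      classInner (fun b : B => (χ : G → ℂ) b) (fun b : B => (χ₁ : G → ℂ) b) = k := fun χ =>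
    CharCore.IsCharacter.exists_classInner_eq_natCast
      (CharCore.isCharacter_restrict (CharCore.irr_isCharacter χ) B)
      (CharCore.isCharacter_restrict (CharCore.irr_isCharacter χ₁) B)
  choose n hn using hn
  have hnsum : ∀ χ : IrrCharacter G,
      ∑ b : B, (χ : G → ℂ) b * conj ((χ₁ : G → ℂ) b) = q * (n χ : ℂ) := fun χ => by
    rw [← hn χ, classInner, ← mul_assoc, mul_inv_cancel₀ hq0, one_mul]
  have hsum : ∑ χ ∈ Q, d χ * n χ = d χ₁ := by
    have h := key fun b => conj ((χ₁ : G → ℂ) b)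
    rw [hW, ← map_sum, hQsum χ₁ hχ₁, map_zero, sub_zero] at h
    simp only [Finset.sum_mul, mul_assoc] at h
    rw [Finset.sum_comm] at h
    simp only [← Finset.mul_sum, hnsum, OneMemClass.coe_one, (hd χ₁).1, Complex.conj_natCast,
      fun χ => (hd χ).1] at h
    have h' : q * ((∑ χ ∈ Q, d χ * n χ : ℕ) : ℂ) = q * (d χ₁ : ℂ) := by
      rw [← h, Nat.cast_sum, Finset.mul_sum]
      refine Finset.sum_congr rfl fun χ _ => ?_
      push_cast
      ring
    exact_mod_cast mul_left_cancel₀ hq0 h'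
  have hn1pos : n χ₁ ≠ 0 := by
    intro h0
    have h := hnsum χ₁
    rw [h0, Nat.cast_zero, mul_zero] at h
    simp only [Complex.mul_conj] at h
    rw [← Complex.ofReal_sum, Complex.ofReal_eq_zero] at h
    have := (Finset.sum_eq_zero_iff_of_nonneg fun b _ => Complex.normSq_nonneg _).1 h 1
      (Finset.mem_univ _)
    rw [Complex.normSq_eq_zero] at this
    exact CharCore.irr_apply_one_ne_zero χ₁ this
  have hn1 : n χ₁ = 1 := by
    have hle : d χ₁ * n χ₁ ≤ d χ₁ * 1 := by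
      rw [mul_one]
      exact (Finset.single_le_sum (f := fun χ => d χ * n χ) (fun _ _ => Nat.zero_le _) hχ₁).trans
        hsum.le
    have := Nat.le_of_mul_le_mul_left hle (hd χ₁).2
    omega
  -- so the restriction to `B` is irreducible, hence linear
  have hgen : IsGeneralizedCharacter B (fun b : B => (χ₁ : G → ℂ) b) :=
    ⟨_, 0, CharCore.isCharacter_restrict (CharCore.irr_isCharacter χ₁) B,
      CharCore.isCharacter_zero, (sub_zero _).symm⟩
  obtain ⟨k, ρ, hρ, hρc⟩ := CharCore.IsGeneralizedCharacter.isIrr_of_norm_one hgen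
    (by rw [hn, hn1, Nat.cast_one])
    (by
      rw [OneMemClass.coe_one, (hd χ₁).1, Complex.natCast_re]
      exact Nat.cast_pos.2 (hd χ₁).2)
  have hd1 : (χ₁ : G → ℂ) 1 = 1 := by
    haveI := hρ
    have hk : Module.finrank ℂ (Fin k → ℂ) ≤ (⊤ : Subgroup B).index :=
      CharClifford.finrank_le_index_of_commute ρ ⊤
        fun a _ c _ => Subtype.ext (hB.comm a a.2 c c.2)
    rw [Subgroup.index_top, Module.finrank_fin_fun] at hk
    have hk' : (χ₁ : G → ℂ) 1 = (k : ℂ) := by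
      have := congrFun hρc 1
      simp only [Representation.char_one, Module.finrank_fin_fun, OneMemClass.coe_one] at this
      exact this.symm
    rw [(hd χ₁).1] at hk' ⊢
    have := (hd χ₁).2
    have hdk : d χ₁ = k := by exact_mod_cast hk'
    rw [show d χ₁ = 1 by omega, Nat.cast_one]
  obtain ⟨f, hf⟩ := CharCore.IsCharacter.exists_hom_of_degree_one (CharCore.irr_isCharacter χ₁) hd1
  rcases (MonoidHom.normal_ker f).eq_bot_or_eq_top with hk | hk
  · exact hctx.nonab ⟨⟨fun a c => (MonoidHom.ker_eq_bot_iff f).1 hk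
      (by rw [map_mul, map_mul, mul_comm])⟩⟩
  · have h1 : χ₁ = T := Subtype.ext (funext fun g => by
      rw [hf, hT1]
      show ((f g : ℂˣ) : ℂ) = 1
      rw [MonoidHom.mem_ker.1 (hk ▸ Subgroup.mem_top g), Units.val_one])
    rw [h1] at hχ₁
    have := (Finset.mem_filter.1 hχ₁).2
    omega

end Cfsg.Agent.PairSyl14
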