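import Cfsg.Agent.PairSyl14.Local
import Cfsg.Agent.Lib.BlocksCore.WeakOrth
import Cfsg.Agent.Lib.CharCore.Eigen

/-!
# S3019: the principal block on the closed abelian subgroup
-/

set_option autoImplicit false

namespace Cfsg.Agent.PairSyl14

open Cfsg BlocksCore.CyclicPrincipal
open scoped ComplexConjugate

universe u

variable {G : Type u} [Group G] [Fintype G] {p : ℕ} [Fact p.Prime]

theorem exists_orderOf_eq_pow {B : Subgroup G} (hs : Setup p B) {b : G} (hb : b ∈ B) :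
    ∃ n : ℕ, orderOf b = p ^ n := by
  obtain ⟨P, hP⟩ := hs.le_sylow
  obtain ⟨i, hi⟩ := P.isPGroup' ⟨b, hP hb⟩
  obtain ⟨l, -, hl⟩ := (Nat.dvd_prime_pow (Fact.out : p.Prime)).1
    (orderOf_dvd_of_pow_eq_one (show b ^ p ^ i = 1 from congrArg Subtype.val hi))
  exact ⟨l, hl⟩

theorem dvd_orderOf_of_mem {B : Subgroup G} (hs : Setup p B) {b : G} (hb : b ∈ B) (hb1 : b ≠ 1) :
    p ∣ orderOf b := by
  obtain ⟨n, hn⟩ := exists_orderOf_eq_pow hs hb
  rcases Nat.eq_zero_or_pos n with h0 | h0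
  · exact absurd (orderOf_eq_one_iff.1 (by rw [hn, h0, pow_zero])) hb1
  · rw [hn]
    exact dvd_pow_self p h0.ne'

theorem apply_inv_conj (χ : IrrCharacter G) (g : G) :
    (χ : G → ℂ) g⁻¹ = conj ((χ : G → ℂ) g) := by
  obtain ⟨f, n, ρ, hρ, rfl⟩ := χ
  exact CharCore.character_inv ρ g

theorem apply_conj_of_isConj (χ : IrrCharacter G) {a b : G} (h : IsConj a b) :
    (χ : G → ℂ) b = (χ : G → ℂ) a := by
  obtain ⟨f, n, ρ, hρ, rfl⟩ := χ
  obtain ⟨c, rfl⟩ := isConj_iff.1 h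
  exact Representation.char_conj ρ a c

variable {M : Ideal AlgInt}

theorem sum_members_mul (hM : IsPModular p M) {x y : G} (hx : ¬ p ∣ orderOf x)
    (hy : p ∣ orderOf y) :
    ∑ χ ∈ members M G, (χ : G → ℂ) x * (χ : G → ℂ) y = 0 := by
  have hB : IsPBlock M (principalBlock M G) :=
    ⟨⟨fun _ => 1, CharCore.isIrrCharacter_one⟩, rfl⟩
  have h := BlocksCore.weakOrth hM hB (x := x) (y := y⁻¹) hx (by rwa [orderOf_inv])
  rw [show principalBlock M G = (↑(members M G) : Set (IrrCharacter G)) from by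
    ext χ; simp [mem_members], finsum_mem_coe_finset] at h
  refine (Finset.sum_congr rfl fun χ _ => ?_).trans h
  rw [apply_inv_conj, Complex.conj_conj]

theorem mem_elts {B : Subgroup G} {x : G} [DecidablePred (· ∈ B)] :
    x ∈ Finset.univ.filter (· ∈ B) ↔ x ∈ B := by simp

open Classical in
theorem sumB_mul_right {B : Subgroup G} {b : G} (hb : b ∈ B) (f : G → ℂ) :
    ∑ x ∈ Finset.univ.filter (· ∈ B), f (x * b) = sumB B f := by
  refine Finset.sum_equiv (Equiv.mulRight b) (fun x => ?_) fun x _ => rfl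
  simp only [Finset.mem_filter, Finset.mem_univ, true_and, Equiv.coe_mulRight]
  exact (B.mul_mem_cancel_right hb).symm

theorem blockIdentity : BlockIdentityStmt.{u} := by
  intro G _ _ p _ M hM hc B hs
  classical
  have hG0 : (Nat.card G : ℂ) ≠ 0 := Nat.cast_ne_zero.mpr Nat.card_pos.ne'
  -- the close element of a conjugate
  have hclose : ∀ v ∈ B, v ≠ 1 → ∀ h : G, ∃ v' ∈ B, v' ≠ 1 ∧ IsConj v v' ∧
      ¬ p ∣ orderOf (h⁻¹ * v * h * v'⁻¹) ∧ ∀ χ ∈ members M G, ∀ x ∈ B, x * v' ≠ 1 →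
        (χ : G → ℂ) (h⁻¹ * v * h * x) = (χ : G → ℂ) (x * v') := by
    intro v hv hv1 h
    obtain ⟨v', hv', hcj, hk⟩ := exists_close hc hs hv h⁻¹
    have hg : Good p (h⁻¹ * v * h⁻¹⁻¹) := good_conj (hs.good v hv) h⁻¹
    have ho : ∃ n : ℕ, orderOf (h⁻¹ * v * h⁻¹⁻¹) = p ^ n := by
      obtain ⟨n, hn⟩ := exists_orderOf_eq_pow hs hv
      exact ⟨n, by rw [← hn]; exact (SemiconjBy.conj_mk h⁻¹ v).orderOf_eq.symm⟩
    simp only [inv_inv] at hk hg ho
    refine ⟨v', hv', fun h1 => hv1 ?_, hcj, ?_, fun χ hχ x hx hne =>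
      apply_close hM hc hs hx hv' hg ho hk hne (mem_members.1 hχ)⟩
    · rw [h1] at hcj
      exact isConj_one_right.1 hcj.symm
    · intro hd
      exact ((Fact.out : p.Prime).coprime_iff_not_dvd.1
        (Powell56.SweepAux.kore_coprime _).symm) (hd.trans (Subgroup.orderOf_dvd_natCard _ hk))
  refine ⟨fun w hw hw1 v hv hv1 => ?_, fun χ hχ x hx hx1 v hv hv1 hn a ha => ?_⟩
  · choose v' hv'B hv'1 hv'c hreg happ using hclose v hv hv1
    have key : ∀ χ ∈ members M G,
        (Nat.card G : ℂ) * (sumB B (χ : G → ℂ) * (χ : G → ℂ) v / (χ : G → ℂ) 1) =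
          (Nat.card G : ℂ) * (sumB B (χ : G → ℂ) - (χ : G → ℂ) 1) +
            ∑ h : G, (χ : G → ℂ) (h⁻¹ * v * h * (v' h)⁻¹) := by
      intro χ hχ
      have hper : ∀ h : G, ∑ x ∈ Finset.univ.filter (· ∈ B), (χ : G → ℂ) (h⁻¹ * v * h * x) =
          sumB B (χ : G → ℂ) - (χ : G → ℂ) 1 + (χ : G → ℂ) (h⁻¹ * v * h * (v' h)⁻¹) := by
        intro h
        have hmem : (v' h)⁻¹ ∈ Finset.univ.filter (· ∈ B) := by
          simpa using hv'B h
        rw [← sumB_mul_right (hv'B h) (χ : G → ℂ), ← Finset.add_sum_erase _ _ hmem,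
          ← Finset.add_sum_erase _ _ hmem, inv_mul_cancel]
        rw [Finset.sum_congr rfl (fun x hx => happ h χ hχ x
          (by simpa using Finset.mem_of_mem_erase hx)
          (fun h1 => Finset.ne_of_mem_erase hx (eq_inv_of_mul_eq_one_left h1)))]
        ring
      have h1 : ∑ h : G, ∑ x ∈ Finset.univ.filter (· ∈ B), (χ : G → ℂ) (h⁻¹ * v * h * x) =
          (Nat.card G : ℂ) * (sumB B (χ : G → ℂ) * (χ : G → ℂ) v / (χ : G → ℂ) 1) := by
        rw [Finset.sum_comm]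
        simp only [BlocksCore.sum_char_conj_mul]
        rw [sumB, Finset.sum_mul, Finset.sum_div, Finset.mul_sum]
        exact Finset.sum_congr rfl fun x _ => by ring
      rw [← h1, Finset.sum_congr rfl fun h _ => hper h, Finset.sum_add_distrib, Finset.sum_const,
        Finset.card_univ, nsmul_eq_mul, Nat.card_eq_fintype_card]
    refine mul_left_cancel₀ hG0 ?_
    rw [Finset.mul_sum, Finset.mul_sum]
    have h2 : ∀ χ ∈ members M G,
        (Nat.card G : ℂ) * (sumB B (χ : G → ℂ) * (χ : G → ℂ) w * (χ : G → ℂ) v / (χ : G → ℂ) 1) =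
          (Nat.card G : ℂ) * (sumB B (χ : G → ℂ) * (χ : G → ℂ) w) -
            (Nat.card G : ℂ) * ((χ : G → ℂ) 1 * (χ : G → ℂ) w) +
            ∑ h : G, (χ : G → ℂ) (h⁻¹ * v * h * (v' h)⁻¹) * (χ : G → ℂ) w := by
      intro χ hχ
      rw [← Finset.sum_mul]
      have := key χ hχ
      linear_combination (χ : G → ℂ) w * this
    rw [Finset.sum_congr rfl h2, Finset.sum_add_distrib, Finset.sum_sub_distrib, ← Finset.mul_sum,
      ← Finset.mul_sum]
    rw [Finset.sum_comm (s := members M G)]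
    rw [sum_members_mul hM (by rw [orderOf_one]; exact hM.1.not_dvd_one)
      (dvd_orderOf_of_mem hs hw hw1)]
    rw [Finset.sum_eq_zero fun h _ => sum_members_mul hM (hreg h) (dvd_orderOf_of_mem hs hw hw1)]
    rw [Finset.mul_sum]
    simp
  · choose v' hv'B hv'1 hv'c hreg happ using hclose v hv hv1
    have h1 := BlocksCore.sum_char_conj_mul χ v x
    rw [ha v hv hv1, ha x hx hx1] at h1
    have h2 : ∀ h : G, (χ : G → ℂ) (h⁻¹ * v * h * x) = a := by
      intro h
      have hne : x * v' h ≠ 1 := fun h0 => hn (by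
        rw [← eq_inv_of_mul_eq_one_right h0]
        exact (hv'c h).symm)
      rw [happ h χ hχ x hx hne]
      exact ha _ (B.mul_mem hx (hv'B h)) hne
    rw [Finset.sum_congr rfl fun h _ => h2 h, Finset.sum_const, Finset.card_univ, nsmul_eq_mul,
      ← Nat.card_eq_fintype_card] at h1
    refine mul_left_cancel₀ hG0 (h1.trans ?_)
    ring

end Cfsg.Agent.PairSyl14
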