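import Cfsg.Agent.PairSyl14.Defs
import Cfsg.Agent.ZStar.Blocks
import Cfsg.Agent.Lib.BlocksCore.PPart

/-!
# S3019: the local lemmas at a good subgroup
-/

set_option autoImplicit false

namespace Cfsg.Agent.PairSyl14

open Cfsg Powell56.SweepAux

universe u

/-- Goodness is invariant under conjugation. -/
theorem good_conj {G : Type u} [Group G] [Finite G] {p : ℕ} [Fact p.Prime] {v : G}
    (hu : Good p v) (g : G) : Good p (g * v * g⁻¹) := by
  intro H h hsol
  set e := (MulAut.conj g⁻¹).subgroupMap H with he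
  have hv : v ∈ H.map ((MulAut.conj g⁻¹ : MulAut G) : G →* G) :=
    ⟨g * v * g⁻¹, h, by simp [mul_assoc]⟩
  refine Powell56.mem_pPrimePCore_of_injective e.toMonoidHom e.injective ?_
  have := hu _ hv (Thompson.isPSolvable_of_equiv e hsol)
  convert this using 1
  refine Subtype.ext ?_
  show g⁻¹ * (g * v * g⁻¹) * g⁻¹⁻¹ = v
  group

/-- A `p`-element of `K P` is conjugate into `P` by an element of `K`. -/
theorem exists_conj_mem_sylow {Y : Type*} [Group Y] [Finite Y] {p : ℕ} [Fact p.Prime]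
    (P : Sylow p Y) (K : Subgroup Y) [K.Normal] {y : Y} (hy : ∃ n : ℕ, orderOf y = p ^ n)
    (h : y ∈ K ⊔ (P : Subgroup Y)) : ∃ k ∈ K, k * y * k⁻¹ ∈ (P : Subgroup Y) := by
  set X := K ⊔ (P : Subgroup Y) with hX
  set PX : Sylow p ↥X := P.subtype le_sup_right with hPX
  obtain ⟨n, hn⟩ := hy
  have hz : IsPGroup p ↥(Subgroup.zpowers (⟨y, h⟩ : ↥X)) :=
    IsPGroup.of_card (n := n) (by rw [Nat.card_zpowers, Subgroup.orderOf_mk, hn])
  obtain ⟨Q, hQ⟩ := hz.exists_le_sylow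
  obtain ⟨x, hx⟩ := MulAction.exists_smul_eq ↥X Q PX
  have hmem : x * ⟨y, h⟩ * x⁻¹ ∈ (PX : Subgroup ↥X) := by
    rw [← hx, Sylow.coe_subgroup_smul]
    exact ⟨_, hQ (Subgroup.mem_zpowers _), by simp⟩
  rw [hPX, Sylow.coe_subtype, Subgroup.mem_subgroupOf] at hmem
  obtain ⟨k, hk, q, hq, hkq⟩ := Subgroup.mem_sup_of_normal_left.mp x.2
  refine ⟨q⁻¹ * k * q, by simpa using (inferInstance : K.Normal).conj_mem k hk q⁻¹, ?_⟩
  have h' : q⁻¹ * ((x : Y) * y * (x : Y)⁻¹) * q ∈ (P : Subgroup Y) :=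
    mul_mem (mul_mem (inv_mem hq) hmem) hq
  convert h' using 1
  rw [← hkq]
  group

/-- Modulo a normal `p'`-subgroup a product with a `p`-element is conjugate to a commuting one. -/
theorem exists_conj_eq_mul {Y : Type*} [Group Y] [Finite Y] {p : ℕ} [hp : Fact p.Prime]
    (K : Subgroup Y) [K.Normal] (hK : (Nat.card ↥K).Coprime p) {z e : Y}
    (hz : ∃ n : ℕ, orderOf z = p ^ n) (he : e * z⁻¹ ∈ K) :
    ∃ c : Y, ∃ w ∈ K, c * e * c⁻¹ = z * w ∧ Commute z w := by
  obtain ⟨a, b, hab, hcomm, ha, hb, -, -⟩ := BlocksCore.exists_isPPart hp.out e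
  set π := QuotientGroup.mk' K with hπ
  obtain ⟨i, hi⟩ := ha
  obtain ⟨j, hj⟩ := hz
  have heq : π e = π z := by
    rw [← mul_inv_eq_one, ← map_inv, ← map_mul, hπ, QuotientGroup.mk'_apply,
      QuotientGroup.eq_one_iff]
    exact he
  have hbK : b ∈ K := by
    have hc : Commute (π a) (π b) := hcomm.map π
    have hb' : π b = (π a)⁻¹ * π z := by rw [← heq, ← hab, map_mul, inv_mul_cancel_left]
    have hcz : Commute (π a)⁻¹ (π z) := by
      rw [← heq, ← hab, map_mul]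
      exact ((Commute.refl _).mul_right hc).inv_left
    have hpow : π b ^ p ^ (i + j) = 1 := by
      rw [hb', hcz.mul_pow, inv_pow, ← map_pow, ← map_pow,
        orderOf_dvd_iff_pow_eq_one.mp (hi ▸ pow_dvd_pow p (Nat.le_add_right i j)),
        orderOf_dvd_iff_pow_eq_one.mp (hj ▸ pow_dvd_pow p (Nat.le_add_left j i))]
      simp
    have h1 : orderOf (π b) = 1 :=
      Nat.eq_one_of_dvd_coprimes ((hp.out.coprime_iff_not_dvd.mpr hb).symm.pow_right (i + j))
        (orderOf_map_dvd π b) (orderOf_dvd_of_pow_eq_one hpow)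
    exact (QuotientGroup.eq_one_iff b).mp (orderOf_eq_one_iff.mp h1)
  have hzp : IsPGroup p ↥(Subgroup.zpowers z) :=
    IsPGroup.of_card (n := j) (by rw [Nat.card_zpowers, hj])
  obtain ⟨P, hP⟩ := hzp.exists_le_sylow
  have hzP : z ∈ (P : Subgroup Y) := hP (Subgroup.mem_zpowers z)
  have haz : a * z⁻¹ ∈ K := by
    rw [← QuotientGroup.eq_one_iff, ← QuotientGroup.mk'_apply, ← hπ, map_mul, map_inv, ← heq,
      ← hab, map_mul, show π b = 1 from (QuotientGroup.eq_one_iff b).mpr hbK, mul_one,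
      mul_inv_cancel]
  obtain ⟨c, hc, hcP⟩ := exists_conj_mem_sylow P K ⟨i, hi⟩ (by
    simpa using mul_mem (Subgroup.mem_sup_left haz) (Subgroup.mem_sup_right hzP))
  have hca : c * a * c⁻¹ = z := by
    have hd : c * a * c⁻¹ * z⁻¹ ∈ K := by
      have h1 := mul_mem (mul_mem hc haz) ((inferInstance : K.Normal).conj_mem _ (inv_mem hc) z)
      convert h1 using 1
      group
    have := Thompson.inf_eq_bot_of_isPGroup_of_coprime P.isPGroup' hK
    exact mul_inv_eq_one.mp ((Subgroup.eq_bot_iff_forall _).mp this _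
      ⟨(P : Subgroup Y).mul_mem hcP ((P : Subgroup Y).inv_mem hzP), hd⟩)
  refine ⟨c, c * b * c⁻¹, (inferInstance : K.Normal).conj_mem b hbK c, ?_, ?_⟩
  · rw [← hca, ← hab]
    group
  · rw [← hca]
    show c * a * c⁻¹ * (c * b * c⁻¹) = c * b * c⁻¹ * (c * a * c⁻¹)
    calc c * a * c⁻¹ * (c * b * c⁻¹) = c * (a * b) * c⁻¹ := by group
      _ = c * (b * a) * c⁻¹ := by rw [hcomm.eq]
      _ = _ := by group

/-- Two good elements that agree modulo `O_{p'}` of their join agree in every `p`-solvable overgroup. -/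
theorem kore_mem_of_good {G : Type u} [Group G] [Finite G] {p : ℕ} [Fact p.Prime] {u v : G}
    (hu : Good p u) (hv : Good p v) {Y : Subgroup G} (huY : u ∈ Y) (hvY : v ∈ Y)
    (hY : IsPSolvable p ↥Y) {k : G}
    (hk : k ∈ kore p (Subgroup.closure ({u, v} : Set G))) : k ∈ kore p Y := by
  have hXP : Subgroup.closure ({u, v} : Set G) ≤ (pPrimePCore p ↥Y).map Y.subtype := by
    rw [Subgroup.closure_le]
    rintro w (rfl | rfl)
    · exact ⟨_, hu Y huY hY, rfl⟩
    · exact ⟨_, hv Y hvY hY, rfl⟩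
  obtain ⟨k', hk', rfl⟩ := hXP (kore_le _ hk)
  refine ⟨k', Powell56.FlavellAux.mem_pPrimeCore_of_mem hk' ?_, rfl⟩
  rw [← Subgroup.orderOf_coe]
  exact (kore_coprime _).coprime_dvd_left (Subgroup.orderOf_dvd_natCard _ hk)

/-- An element of order prime to `p` whose commutators with a Sylow `p`-subgroup have order prime
to `p` lies in `O_{p'}` of a `p`-solvable group. -/
theorem mem_pPrimeCore_of_sylow {C : Type*} [Group C] [Finite C] {p : ℕ} [Fact p.Prime]
    (hC : IsPSolvable p C) (Q : Sylow p C) {w : C} (hw : (orderOf w).Coprime p)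
    (h : ∀ q ∈ (Q : Subgroup C), (orderOf (q * w * q⁻¹ * w⁻¹)).Coprime p) :
    w ∈ pPrimeCore p C := by
  refine Powell56.FlavellAux.mem_pPrimeCore_of_mem ?_ hw
  set π := QuotientGroup.mk' (pPrimeCore p C) with hπ
  have hπs : Function.Surjective π := QuotientGroup.mk'_surjective _
  refine Thompson.centralizer_pCore_le (Thompson.isPSolvable_quotient _ hC)
    Thompson.pPrimeCore_quotient_pPrimeCore ?_
  rw [Subgroup.mem_centralizer_iff]
  intro y hy
  have hy' := Thompson.pCore_le_sylow (Q.mapSurjective hπs) hy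
  rw [Sylow.coe_mapSurjective] at hy'
  obtain ⟨q, hq, rfl⟩ := hy'
  have hqJ : q ∈ pPrimePCore p C := hy
  have hcomm : q * w * q⁻¹ * w⁻¹ ∈ pPrimePCore p C := by
    have h1 := mul_mem hqJ
      ((inferInstance : (pPrimePCore p C).Normal).conj_mem _ (inv_mem hqJ) w)
    convert h1 using 1
    group
  have h2 : π (q * w * q⁻¹ * w⁻¹) = 1 :=
    (QuotientGroup.eq_one_iff _).mpr
      (Powell56.FlavellAux.mem_pPrimeCore_of_mem hcomm (h q hq))
  rw [map_mul, map_mul, map_mul, map_inv, map_inv, mul_inv_eq_one, mul_inv_eq_iff_eq_mul] at h2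
  exact h2

/-- A conjugate of an element of `B` agrees with an element of `B` modulo `O_{p'}`. -/
theorem exists_close {G : Type u} [Group G] [Finite G] {p : ℕ} [Fact p.Prime] (hc : Ctx p G)
    {B : Subgroup G} (hs : Setup p B) {v : G} (hv : v ∈ B) (g : G) :
    ∃ v' ∈ B, IsConj v v' ∧ g * v * g⁻¹ * v'⁻¹ ∈
      Powell56.SweepAux.kore p (Subgroup.closure ({g * v * g⁻¹, v'} : Set G)) := by
  obtain ⟨P, hBP⟩ := hs.le_sylow
  set Pu : Sylow p G := g • P with hPu
  set u := g * v * g⁻¹ with hu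
  have huPu : u ∈ (Pu : Subgroup G) := by
    rw [hPu, Sylow.coe_subgroup_smul]
    exact ⟨v, hBP hv, by simp [hu]⟩
  set Y := (P : Subgroup G) ⊔ (Pu : Subgroup G) with hY
  have hYsol : IsPSolvable p ↥Y := hc.proper Y (hc.pair P Pu)
  have huY : u ∈ Y := Subgroup.mem_sup_right huPu
  have hgood : (⟨u, huY⟩ : ↥Y) ∈ pPrimePCore p ↥Y := good_conj (hs.good v hv) g Y huY hYsol
  set PY : Sylow p ↥Y := P.subtype le_sup_left with hPY
  set π := QuotientGroup.mk' (pPrimeCore p ↥Y) with hπ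
  have hmem : (⟨u, huY⟩ : ↥Y) ∈ pPrimeCore p ↥Y ⊔ (PY : Subgroup ↥Y) := by
    have h1 := Thompson.pCore_le_sylow (PY.mapSurjective (QuotientGroup.mk'_surjective _)) hgood
    rw [Sylow.coe_mapSurjective] at h1
    rw [← QuotientGroup.ker_mk' (pPrimeCore p ↥Y), sup_comm, ← Subgroup.comap_map_eq]
    exact h1
  have hord : ∃ n : ℕ, orderOf (⟨u, huY⟩ : ↥Y) = p ^ n := by
    obtain ⟨n, hn⟩ := IsPGroup.iff_orderOf.1 Pu.isPGroup' ⟨u, huPu⟩
    exact ⟨n, by rw [Subgroup.orderOf_mk] at hn ⊢; exact hn⟩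
  obtain ⟨k, hk, hkP⟩ := exists_conj_mem_sylow PY (pPrimeCore p ↥Y) hord hmem
  rw [hPY, Sylow.coe_subtype, Subgroup.mem_subgroupOf] at hkP
  have hv'P : (k : G) * u * (k : G)⁻¹ ∈ (P : Subgroup G) := by simpa using hkP
  have hconj : (k : G) * u * (k : G)⁻¹ = ((k : G) * g) * v * ((k : G) * g)⁻¹ := by
    rw [hu]; group
  refine ⟨(k : G) * u * (k : G)⁻¹, ?_, isConj_iff.mpr ⟨(k : G) * g, hconj.symm⟩, ?_⟩
  · rw [hconj] at hv'P ⊢
    exact hs.closed P hBP v hv _ hv'P
  · refine kore_inf_le (B := Y) ?_ ?_ ?_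
    · rw [Subgroup.closure_le]
      rintro w (rfl | rfl)
      · exact huY
      · exact mul_mem (mul_mem k.2 huY) (inv_mem k.2)
    · refine ⟨⟨u, huY⟩ * k * ⟨u, huY⟩⁻¹ * k⁻¹,
        mul_mem ((inferInstance : (pPrimeCore p ↥Y).Normal).conj_mem k hk _) (inv_mem hk), ?_⟩
      simp [mul_assoc]
    · exact mul_mem (Subgroup.subset_closure (Set.mem_insert _ _))
        (inv_mem (Subgroup.subset_closure (Set.mem_insert_of_mem _ rfl)))

/-- A character in the principal block does not distinguish `u` from `v'` next to `B`. -/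
theorem apply_close {G : Type u} [Group G] [Fintype G] {p : ℕ} [Fact p.Prime] {M : Ideal AlgInt}
    (hM : IsPModular p M) (hc : Ctx p G) {B : Subgroup G} (hs : Setup p B) {x v' : G}
    (hx : x ∈ B) (hv' : v' ∈ B) {u : G} (hu : Good p u) (hup : ∃ n : ℕ, orderOf u = p ^ n)
    (hk : u * v'⁻¹ ∈ Powell56.SweepAux.kore p (Subgroup.closure ({u, v'} : Set G)))
    (hne : x * v' ≠ 1) {χ : IrrCharacter G} (hχ : χ ∈ principalBlock M G) :
    (χ : G → ℂ) (u * x) = (χ : G → ℂ) (x * v') := by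
  classical
  obtain ⟨P, hBP⟩ := hs.le_sylow
  have hzB : x * v' ∈ B := mul_mem hx hv'
  have hzC : B ≤ Subgroup.centralizer ({x * v'} : Set G) := fun b hb =>
    Subgroup.mem_centralizer_singleton_iff.mpr (hs.comm b hb _ hzB)
  set C := Subgroup.centralizer ({x * v'} : Set G) with hC
  have hCtop : C ≠ ⊤ := fun h => by
    have := hc.simple
    have hzc : x * v' ∈ Subgroup.center G := Subgroup.mem_center_iff.mpr fun a =>
      Subgroup.mem_centralizer_singleton_iff.mp (hC ▸ h.ge (Subgroup.mem_top a))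
    rcases (inferInstance : (Subgroup.center G).Normal).eq_bot_or_eq_top with hb | ht
    · exact hne ((Subgroup.eq_bot_iff_forall _).mp hb _ hzc)
    · exact hc.nonab ⟨⟨fun a b => Subgroup.mem_center_iff.mp (ht.ge (Subgroup.mem_top b)) a⟩⟩
  have hCsol : IsPSolvable p ↥C := hc.proper C hCtop
  have hBp : IsPGroup p ↥B := P.isPGroup'.to_le hBP
  obtain ⟨Q, hQ⟩ := (hBp.comap_subtype (K := C)).exists_le_sylow
  obtain ⟨P1, hP1⟩ := (Q.isPGroup'.map C.subtype).exists_le_sylow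
  have hBP1 : B ≤ (P1 : Subgroup G) := fun b hb =>
    hP1 ⟨⟨b, hzC hb⟩, hQ (Subgroup.mem_subgroupOf.mpr hb), rfl⟩
  obtain ⟨n, hn⟩ := hup
  obtain ⟨Pu, hPu⟩ :=
    (IsPGroup.of_card (n := n) (p := p) (G := ↥(Subgroup.zpowers u))
      (by rw [Nat.card_zpowers, hn])).exists_le_sylow
  set Y := (P1 : Subgroup G) ⊔ (Pu : Subgroup G) with hY
  have hYsol : IsPSolvable p ↥Y := hc.proper Y (hc.pair P1 Pu)
  have huY : u ∈ Y := Subgroup.mem_sup_right (hPu (Subgroup.mem_zpowers u))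
  have hxY : x ∈ Y := Subgroup.mem_sup_left (hBP1 hx)
  have hv'Y : v' ∈ Y := Subgroup.mem_sup_left (hBP1 hv')
  obtain ⟨k, hkK, hkeq⟩ := kore_mem_of_good hu (hs.good v' hv') huY hv'Y hYsol hk
  have hzp : ∃ j : ℕ, orderOf (x * v') = p ^ j := by
    obtain ⟨j, hj⟩ := IsPGroup.iff_orderOf.1 hBp ⟨_, hzB⟩
    exact ⟨j, by rwa [Subgroup.orderOf_mk] at hj⟩
  set zY : ↥Y := ⟨x * v', mul_mem hxY hv'Y⟩ with hzY
  obtain ⟨c, w, hw, hceq, hcomm⟩ := exists_conj_eq_mul (p := p) (pPrimeCore p ↥Y)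
    Thompson.card_pPrimeCore_coprime (z := zY) (e := k * zY)
    (by simpa [hzY, Subgroup.orderOf_mk] using hzp) (by simpa using hkK)
  have hux : u * x = ((k * zY : ↥Y) : G) := by
    have : (k : G) = u * v'⁻¹ := hkeq
    rw [Subgroup.coe_mul, this, hzY]
    show u * x = u * v'⁻¹ * (x * v')
    rw [hs.comm x hx v' hv']
    group
  have hwC : (w : G) ∈ C := by
    rw [hC, Subgroup.mem_centralizer_singleton_iff]
    exact (congrArg Subtype.val hcomm.eq).symm
  have hword : (orderOf (w : G)).Coprime p := by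
    rw [Subgroup.orderOf_coe]
    exact Thompson.card_pPrimeCore_coprime.coprime_dvd_left
      (Subgroup.orderOf_dvd_natCard _ hw)
  have hwK : (w : G) ∈ kore p C := by
    refine ⟨⟨w, hwC⟩, mem_pPrimeCore_of_sylow hCsol Q ?_ fun q hq => ?_, rfl⟩
    · rwa [Subgroup.orderOf_mk]
    · have hqY : (q : G) ∈ Y := Subgroup.mem_sup_left (hP1 ⟨q, hq, rfl⟩)
      have hmem : (⟨(q : G), hqY⟩ : ↥Y) * w * (⟨(q : G), hqY⟩ : ↥Y)⁻¹ * w⁻¹ ∈ pPrimeCore p ↥Y :=
        mul_mem ((inferInstance : (pPrimeCore p ↥Y).Normal).conj_mem w hw _) (inv_mem hw)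
      have h1 := (Thompson.card_pPrimeCore_coprime (p := p) (G := ↥Y)).coprime_dvd_left
        (Subgroup.orderOf_dvd_natCard _ hmem)
      rw [← Subgroup.orderOf_coe] at h1 ⊢
      exact h1
  have hdata : ZStar.SectionData p (x * v') (kore p C) := by
    refine ⟨hzp, kore_le C, fun c hc => ?_, ?_⟩
    · rw [Subgroup.mem_normalizer_iff]
      refine fun h => ⟨fun hh => kore_conj hc hh, fun hh => ?_⟩
      simpa [mul_assoc] using kore_conj (C.inv_mem hc) hh
    · exact ((Fact.out : p.Prime).coprime_iff_not_dvd).mp (kore_coprime C).symm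
  rw [← ZStar.apply_mul_eq hM hdata hχ hwK, hux, ← CharCore.irr_isClassFunction χ _ (c : G)]
  exact congrArg _ (congrArg Subtype.val hceq)

end Cfsg.Agent.PairSyl14
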