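import Cfsg.Agent.PairSyl14.Identity
import Cfsg.Agent.Blocks88.Modular
import Cfsg.Agent.ThreeP79.Five

/-!
# S3019: assembly
-/

set_option autoImplicit false

namespace Cfsg.Agent.PairSyl14

open Cfsg

universe u

theorem main (hA : ExistsSetupStmt.{u}) (hS : SweepStmt.{u}) (hC : BoundStmt.{u})
    (hF2 : FinishTwoStmt.{u}) (hF1 : FinishOneStmt.{u}) :
    ∀ (G : Type u) [Group G] [Finite G] (p : ℕ) [Fact p.Prime], Ctx p G → False := by
  intro G _ _ p hp hc
  have hsimp : IsSimpleGroup G := hc.simple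
  obtain ⟨B, hs⟩ := hA G p hc
  have := Fintype.ofFinite G
  obtain ⟨v, hv, hv1⟩ := (Subgroup.ne_bot_iff_exists_ne_one.1 hs.ne_bot).elim
    fun b hb => (⟨b.1, b.2, fun h => hb (Subtype.ext h)⟩ : ∃ v, v ∈ B ∧ v ≠ 1)
  by_cases hq : Nat.card B = 2
  · have ho : orderOf v = 2 := by
      have hd : orderOf v ∣ 2 := hq ▸ Subgroup.orderOf_dvd_natCard B hv
      rcases (Nat.dvd_prime Nat.prime_two).1 hd with h | h
      · exact absurd (orderOf_eq_one_iff.1 h) hv1
      · exact h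
    have hp2 : p = 2 := (Nat.prime_dvd_prime_iff_eq hp.out Nat.prime_two).1
      (ho ▸ dvd_orderOf_of_mem hs hv hv1)
    subst hp2
    obtain ⟨P, hP⟩ := hs.le_sylow
    refine ThreeP79.not_isolated hc.nonab P ho (hP hv) fun g hg => ?_
    have hb := hs.closed P hP v hv g hg
    by_contra hne
    have hne1 : g * v * g⁻¹ ≠ 1 := fun h => hv1 (conj_eq_one_iff.1 h)
    have : Nat.card B = 2 := hq
    obtain ⟨a, b, hab, huniv⟩ := Nat.card_eq_two_iff.1 this
    have hmem : ∀ x : B, x = a ∨ x = b := fun x => by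
      simpa using (huniv ▸ Set.mem_univ x : x ∈ ({a, b} : Set B))
    have h1 := hmem ⟨1, B.one_mem⟩
    have h2 := hmem ⟨v, hv⟩
    have h3 := hmem ⟨g * v * g⁻¹, hb⟩
    rcases h1 with h1 | h1 <;> rcases h2 with h2 | h2 <;> rcases h3 with h3 | h3 <;>
      first
        | exact hv1 (congrArg Subtype.val (h2.trans h1.symm))
        | exact hne1 (congrArg Subtype.val (h3.trans h1.symm))
        | exact hne (congrArg Subtype.val (h3.trans h2.symm))
  obtain ⟨M, hM⟩ := Blocks88.exists_isPModular hp.out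
  have hI := blockIdentity G p M hM hc B hs
  by_cases h2 : ∃ x ∈ B, x ≠ 1 ∧ ∃ w ∈ B, w ≠ 1 ∧ ¬ IsConj x⁻¹ w
  · exact hF2 G p M hM hc B hs hI h2
  push Not at h2
  have hconj : ∀ x ∈ B, x ≠ 1 → ∀ w ∈ B, w ≠ 1 → IsConj x w := fun x hx hx1 w hw hw1 => by
    have := h2 x⁻¹ (B.inv_mem hx) (inv_ne_one.2 hx1) w hw hw1
    rwa [inv_inv] at this
  have h3 : 3 ≤ Nat.card B := by
    have : 1 < Nat.card B := by
      rw [Subgroup.one_lt_card_iff_ne_bot]
      exact hs.ne_bot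
    omega
  refine hF1 G p M hM hc B hs hI h3 hconj ?_
  by_cases hgen : ∃ a b c : G,
      Subgroup.closure ({a * v * a⁻¹, b * v * b⁻¹, c * v * c⁻¹} : Set G) = ⊤
  · obtain ⟨a, b, c, habc⟩ := hgen
    refine hC G B a b c (top_le_iff.1 (habc ▸ ?_))
    rw [Subgroup.closure_le]
    have hm : ∀ g : G, g * v * g⁻¹ ∈ B.map (MulAut.conj g).toMonoidHom := fun g =>
      ⟨v, hv, rfl⟩
    rintro x (rfl | rfl | rfl)
    · exact Subgroup.mem_sup_left (Subgroup.mem_sup_left (hm a))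
    · exact Subgroup.mem_sup_left (Subgroup.mem_sup_right (hm b))
    · exact Subgroup.mem_sup_right (hm c)
  push Not at hgen
  exfalso
  obtain ⟨n, hn⟩ := exists_orderOf_eq_pow hs hv
  refine hS G p hsimp hc.nonab v ⟨n, hn⟩ (fun g => good_conj (hs.good v hv) g)
    (fun a b c => hc.proper _ (hgen a b c)) ?_
  obtain ⟨w, hw, hw1, hwv⟩ : ∃ w ∈ B, w ≠ 1 ∧ w ≠ v := by
    by_contra hcon
    push Not at hcon
    have hle : Nat.card B ≤ 2 := by
      have hsub : (B : Set G) ⊆ {1, v} := fun x hx => by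
        by_cases hx1 : x = 1
        · exact Or.inl hx1
        · exact Or.inr (hcon x hx hx1)
      calc Nat.card B = (B : Set G).ncard := rfl
        _ ≤ ({1, v} : Set G).ncard := Set.ncard_le_ncard hsub
        _ ≤ 2 := (Set.ncard_insert_le _ _).trans (by simp)
    omega
  obtain ⟨g, rfl⟩ := isConj_iff.1 (hconj v hv hv1 w hw hw1)
  refine ⟨g, hwv, ?_⟩
  obtain ⟨P, hP⟩ := hs.le_sylow
  refine P.isPGroup'.to_le ((Subgroup.closure_le _).2 ?_)
  rintro x (rfl | rfl)
  · exact hP hv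
  · exact hP hw

end Cfsg.Agent.PairSyl14
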