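import Cfsg.Agent.PairSyl14.Defs
import Cfsg.Agent.Lib.Thompson.PSolvable

/-!
# Piece F of S3019: the reduction to a minimal counterexample
-/

set_option autoImplicit false

namespace Cfsg.Agent.PairSyl14

namespace ReduceAux

open Cfsg

universe u

variable {p : ℕ} [hp : Fact p.Prime]

/-- A subgroup of a `p`-solvable subgroup is `p`-solvable. -/
theorem isPSolvable_of_le {G : Type u} [Group G] {H K : Subgroup G} (h : H ≤ K)
    (hK : IsPSolvable p ↥K) : IsPSolvable p ↥H :=
  Thompson.isPSolvable_of_equiv (Subgroup.subgroupOfEquivOfLe h)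
    (Thompson.isPSolvable_subgroup _ hK)

/-- An extension of a `p`-solvable group by a `p`-solvable group is `p`-solvable. -/
theorem isPSolvable_extension' :
    ∀ (n : ℕ) {G : Type u} [Group G] [Finite G], Nat.card G = n → ∀ (K : Subgroup G) [K.Normal],
      IsPSolvable p K → IsPSolvable p (G ⧸ K) → IsPSolvable p G := by
  intro n
  induction n using Nat.strong_induction_on with
  | _ n ih =>
    intro G _ _ hn K _ hK hQ
    by_cases hb : K = ⊥
    · exact Thompson.isPSolvable_of_equiv
        ((QuotientGroup.quotientMulEquivOfEq hb).trans QuotientGroup.quotientBot) hQ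
    haveI : Nontrivial K := (Subgroup.nontrivial_iff_ne_bot K).mpr hb
    obtain ⟨M₀, hch, hne, hkind⟩ : ∃ M₀ : Subgroup K, M₀.Characteristic ∧ M₀ ≠ ⊥ ∧
        (IsPGroup p M₀ ∨ (Nat.card M₀).Coprime p) := by
      rcases Thompson.pCore_ne_bot_or_pPrimeCore_ne_bot hK with h | h
      · exact ⟨_, inferInstance, h, Or.inl Thompson.isPGroup_pCore⟩
      · exact ⟨_, inferInstance, h, Or.inr Thompson.card_pPrimeCore_coprime⟩
    haveI := hch
    haveI := Thompson.map_subtype_normal_of_characteristic K M₀
    set M := M₀.map K.subtype with hM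
    have hcard : Nat.card M = Nat.card M₀ :=
      Subgroup.card_map_of_injective K.subtype_injective
    have hMne : M ≠ ⊥ := fun h => hne
      ((Subgroup.map_eq_bot_iff_of_injective _ K.subtype_injective).mp h)
    have hMK : M ≤ K := Subgroup.map_subtype_le _
    refine Thompson.isPSolvable_of_quotient M ?_ ?_
    · refine hkind.imp (fun h => h.map _) (fun h => hcard ▸ h)
    · have hlt : Nat.card (G ⧸ M) < n := by
        rw [← hn, Subgroup.card_eq_card_quotient_mul_card_subgroup M]
        exact lt_mul_of_one_lt_right Nat.card_pos (M.one_lt_card_iff_ne_bot.mpr hMne)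
      refine ih _ hlt rfl (K.map (QuotientGroup.mk' M)) ?_ ?_
      · exact Thompson.isPSolvable_of_surjective ((QuotientGroup.mk' M).subgroupMap K)
          (MonoidHom.subgroupMap_surjective _ _) hK
      · exact Thompson.isPSolvable_of_equiv
          (QuotientGroup.quotientQuotientEquivQuotient M K hMK).symm hQ

/-- The induction: if all joins of two Sylow subgroups are `p`-solvable, so is the group. -/
theorem isPSolvable_of_sylowPairs
    (hctx : ∀ (G : Type u) [Group G] [Finite G], Ctx p G → False) :
    ∀ (n : ℕ) (G : Type u) [Group G] [Finite G], Nat.card G = n →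
      (∀ P Q : Sylow p G, IsPSolvable p ↥((P : Subgroup G) ⊔ (Q : Subgroup G))) →
      IsPSolvable p G := by
  intro n
  induction n using Nat.strong_induction_on with
  | _ n ih =>
    intro G _ _ hn hpairs
    -- proper subgroups
    have hsub : ∀ H : Subgroup G, H ≠ ⊤ → IsPSolvable p ↥H := by
      intro H hH
      refine ih (Nat.card H) ?_ H rfl fun R R' => ?_
      · rw [← hn]
        exact lt_of_le_of_ne (Subgroup.card_le_card_group H)
          fun h => hH (Subgroup.eq_top_of_card_eq H h)
      obtain ⟨P, hP⟩ := (R.isPGroup'.map H.subtype).exists_le_sylow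
      obtain ⟨Q, hQ⟩ := (R'.isPGroup'.map H.subtype).exists_le_sylow
      have hle : ((R : Subgroup H) ⊔ R').map H.subtype ≤ (P : Subgroup G) ⊔ Q := by
        rw [Subgroup.map_sup]
        exact sup_le_sup hP hQ
      exact Thompson.isPSolvable_of_equiv
        (((R : Subgroup H) ⊔ R').equivMapOfInjective H.subtype H.subtype_injective).symm
        (isPSolvable_of_le hle (hpairs P Q))
    -- a proper nontrivial normal subgroup
    by_cases hN : ∃ N : Subgroup G, N.Normal ∧ N ≠ ⊥ ∧ N ≠ ⊤
    · obtain ⟨N, hNn, hNb, hNt⟩ := hN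
      refine isPSolvable_extension' (Nat.card G) rfl N (hsub N hNt)
        (ih (Nat.card (G ⧸ N)) ?_ (G ⧸ N) rfl fun R R' => ?_)
      · rw [← hn, Subgroup.card_eq_card_quotient_mul_card_subgroup N]
        exact lt_mul_of_one_lt_right Nat.card_pos (N.one_lt_card_iff_ne_bot.mpr hNb)
      obtain ⟨P, rfl⟩ := Sylow.mapSurjective_surjective (QuotientGroup.mk'_surjective N) p R
      obtain ⟨Q, rfl⟩ := Sylow.mapSurjective_surjective (QuotientGroup.mk'_surjective N) p R'
      rw [Sylow.coe_mapSurjective, Sylow.coe_mapSurjective, ← Subgroup.map_sup]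
      exact Thompson.isPSolvable_of_surjective _
        ((QuotientGroup.mk' N).subgroupMap_surjective _) (hpairs P Q)
    -- the simple case
    rcases subsingleton_or_nontrivial G with hG | hG
    · exact Thompson.isPSolvable_of_coprime (by rw [Nat.card_unique]; exact Nat.coprime_one_left p)
    haveI hsimple : IsSimpleGroup G :=
      ⟨fun H hH => by
        by_contra h
        push Not at h
        exact hN ⟨H, hH, h.1, h.2⟩⟩
    by_cases hdvd : p ∣ Nat.card G
    swap
    · exact Thompson.isPSolvable_of_coprime (hp.out.coprime_iff_not_dvd.mpr hdvd).symm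
    by_cases hab : IsMulCommutative G
    · letI : CommGroup G :=
        { (inferInstance : Group G) with mul_comm := fun a b => hab.is_comm.comm a b }
      have hpr : (Nat.card G).Prime := IsSimpleGroup.prime_card
      refine Thompson.isPSolvable_of_isPGroup (IsPGroup.of_card (n := 1) ?_)
      rw [pow_one]
      exact ((Nat.prime_dvd_prime_iff_eq hp.out hpr).mp hdvd).symm
    by_cases htop : ∃ P Q : Sylow p G, (P : Subgroup G) ⊔ Q = ⊤
    · obtain ⟨P, Q, hPQ⟩ := htop
      exact Thompson.isPSolvable_of_equiv
        ((MulEquiv.subgroupCongr hPQ).trans Subgroup.topEquiv) (hpairs P Q)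
    push Not at htop
    exact (hctx G ⟨hsimple, hab, hdvd, hsub, htop⟩).elim

end ReduceAux

open Cfsg ReduceAux

universe u

/-- Piece F. -/
theorem reduce : ReduceStmt.{u} := by
  intro hctx G _ _ p _ P
  refine ⟨fun h g => Thompson.isPSolvable_subgroup _ h, fun h => ?_⟩
  refine isPSolvable_of_sylowPairs (fun G _ _ hc => hctx G p hc) (Nat.card G) G rfl fun R R' => ?_
  obtain ⟨a, rfl⟩ := MulAction.exists_smul_eq G P R
  obtain ⟨b, rfl⟩ := MulAction.exists_smul_eq G P R'
  have hmap : ((P : Subgroup G) ⊔ (P : Subgroup G).map (MulAut.conj (a⁻¹ * b)).toMonoidHom).map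
      (MulAut.conj a).toMonoidHom =
      ((a • P : Sylow p G) : Subgroup G) ⊔ ((b • P : Sylow p G) : Subgroup G) := by
    rw [Subgroup.map_sup, Subgroup.map_map]
    congr 1
    rw [show ((b • P : Sylow p G) : Subgroup G) =
      (P : Subgroup G).map (MulAut.conj b).toMonoidHom from rfl]
    congr 1
    ext x
    simp [MulAut.conj_apply, mul_assoc]
  exact Thompson.isPSolvable_of_equiv
    (((MulAut.conj a).subgroupMap _).trans (MulEquiv.subgroupCongr hmap)) (h (a⁻¹ * b))

end Cfsg.Agent.PairSyl14
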