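import Cfsg.Agent.Powell56.Sweep
import Cfsg.Agent.PairSyl14.Defs

/-!
A class of good `p`-elements in a simple group contains three members generating the group.
-/

set_option autoImplicit false
set_option linter.unusedVariables false

namespace Cfsg.Agent.PairSyl14

open Cfsg Cfsg.Agent.Powell56 Cfsg.Agent.Powell56.SweepAux

universe u

namespace SweepAux14

variable {G : Type*} [Group G] {p : ℕ} [Finite G]

section Good

variable [hp : Fact p.Prime] {u₀ : G}
  (hps : ∀ x y z : G, x ∈ Set.range (fun g : G => g * u₀ * g⁻¹) →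
    y ∈ Set.range (fun g : G => g * u₀ * g⁻¹) → z ∈ Set.range (fun g : G => g * u₀ * g⁻¹) →
    IsPSolvable p ↥(Subgroup.closure ({x, y, z} : Set G)))
  (hgood : ∀ (g : G) (H : Subgroup G) (h : g * u₀ * g⁻¹ ∈ H), IsPSolvable p ↥H →
    (⟨g * u₀ * g⁻¹, h⟩ : ↥H) ∈ pPrimePCore p ↥H)

include hps hgood

/-- Two members of the class generate a subgroup of `O_{p',p}` of any triple containing them. -/
theorem kore_pair_le {x y z : G} {u v : G}
    (hYs : IsPSolvable p ↥(Subgroup.closure ({x, y, z} : Set G)))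
    (hu : u ∈ Set.range fun g : G => g * u₀ * g⁻¹) (hv : v ∈ Set.range fun g : G => g * u₀ * g⁻¹)
    (hle : Subgroup.closure ({u, v} : Set G) ≤ Subgroup.closure ({x, y, z} : Set G)) :
    kore p (Subgroup.closure ({u, v} : Set G)) ≤ kore p (Subgroup.closure ({x, y, z} : Set G)) := by
  set Y := Subgroup.closure ({x, y, z} : Set G) with hY
  have hXP : Subgroup.closure ({u, v} : Set G) ≤ (pPrimePCore p ↥Y).map Y.subtype := by
    rw [Subgroup.closure_le]
    intro w hw
    have hwY : w ∈ Y := hle (Subgroup.subset_closure hw)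
    have hwD : w ∈ Set.range fun g : G => g * u₀ * g⁻¹ := by
      rcases hw with rfl | hw
      · exact hu
      · rw [Set.mem_singleton_iff] at hw; rw [hw]; exact hv
    obtain ⟨g, rfl⟩ := hwD
    exact ⟨_, hgood g Y hwY hYs, rfl⟩
  intro k hk
  obtain ⟨k', hk', rfl⟩ := hXP (kore_le _ hk)
  refine ⟨k', FlavellAux.mem_pPrimeCore_of_mem hk' ?_, rfl⟩
  rw [← Subgroup.orderOf_coe]
  exact (kore_coprime _).coprime_dvd_left (Subgroup.orderOf_dvd_natCard _ hk)

theorem rel_trans {u v w : G}
    (hu : u ∈ Set.range fun g : G => g * u₀ * g⁻¹) (hv : v ∈ Set.range fun g : G => g * u₀ * g⁻¹)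
    (hw : w ∈ Set.range fun g : G => g * u₀ * g⁻¹) (h1 : Rel p u v) (h2 : Rel p v w) :
    Rel p u w := by
  have l1 : Subgroup.closure ({u, v} : Set G) ≤ Subgroup.closure ({u, v, w} : Set G) :=
    Subgroup.closure_mono (by simp [Set.insert_subset_iff])
  have l2 : Subgroup.closure ({v, w} : Set G) ≤ Subgroup.closure ({u, v, w} : Set G) :=
    Subgroup.closure_mono (by simp [Set.insert_subset_iff])
  have l3 : Subgroup.closure ({u, w} : Set G) ≤ Subgroup.closure ({u, v, w} : Set G) :=
    Subgroup.closure_mono (by simp [Set.insert_subset_iff])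
  have hs := hps u v w hu hv hw
  have h := mul_mem (kore_pair_le hps hgood hs hu hv l1 h1) (kore_pair_le hps hgood hs hv hw l2 h2)
  rw [mul_assoc, inv_mul_cancel_left] at h
  refine kore_inf_le l3 h ?_
  exact mul_mem (Subgroup.subset_closure (Set.mem_insert _ _))
    (inv_mem (Subgroup.subset_closure (Set.mem_insert_of_mem _ rfl)))

theorem rel_step {u u₁ e : G}
    (hu : u ∈ Set.range fun g : G => g * u₀ * g⁻¹) (hu₁ : u₁ ∈ Set.range fun g : G => g * u₀ * g⁻¹)
    (he : e ∈ Set.range fun g : G => g * u₀ * g⁻¹)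
    (h : Rel p u u₁) : Rel p (u * e * u⁻¹) (u₁ * e * u₁⁻¹) := by
  set Y := Subgroup.closure ({u, u₁, e} : Set G) with hY
  have huY : u ∈ Y := Subgroup.subset_closure (by simp)
  have hu₁Y : u₁ ∈ Y := Subgroup.subset_closure (by simp)
  have heY : e ∈ Y := Subgroup.subset_closure (by simp)
  have hk : u * u₁⁻¹ ∈ kore p Y :=
    kore_pair_le hps hgood (hps u u₁ e hu hu₁ he) hu hu₁ (Subgroup.closure_mono (by simp [Set.insert_subset_iff])) h
  have hc : ∀ {a : G}, a ∈ Y → a * e * a⁻¹ ∈ Y := fun ha => mul_mem (mul_mem ha heY) (inv_mem ha)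
  refine kore_inf_le (B := Y) ?_ ?_ ?_
  · rw [Subgroup.closure_le]
    intro w hw
    rcases hw with rfl | hw
    · exact hc huY
    · rw [Set.mem_singleton_iff] at hw; rw [hw]; exact hc hu₁Y
  · have h2 := mul_mem hk (kore_conj (hc hu₁Y) (inv_mem hk))
    have heq : u * e * u⁻¹ * (u₁ * e * u₁⁻¹)⁻¹ = u * u₁⁻¹ *
        (u₁ * e * u₁⁻¹ * (u * u₁⁻¹)⁻¹ * (u₁ * e * u₁⁻¹)⁻¹) := by group
    rw [heq]
    exact h2
  · exact mul_mem (Subgroup.subset_closure (Set.mem_insert _ _))
      (inv_mem (Subgroup.subset_closure (Set.mem_insert_of_mem _ rfl)))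

end Good

end SweepAux14

open SweepAux14 in
/-- `Powell56.false_of_good` for triples inside one class. -/
theorem sweep : SweepStmt.{u} := by
  intro G _ _ p hp hsimp hna u₀ hu hgood' hps3 hmove
  haveI := hsimp
  have hgood : ∀ (g : G) (H : Subgroup G) (h : g * u₀ * g⁻¹ ∈ H), Cfsg.IsPSolvable p ↥H →
      (⟨g * u₀ * g⁻¹, h⟩ : ↥H) ∈ Cfsg.pPrimePCore p ↥H := fun g => hgood' g
  have hps : ∀ x y z : G, x ∈ Set.range (fun g : G => g * u₀ * g⁻¹) →
      y ∈ Set.range (fun g : G => g * u₀ * g⁻¹) → z ∈ Set.range (fun g : G => g * u₀ * g⁻¹) →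
      IsPSolvable p ↥(Subgroup.closure ({x, y, z} : Set G)) := by
    rintro _ _ _ ⟨a, rfl⟩ ⟨b, rfl⟩ ⟨c, rfl⟩
    exact hps3 a b c
  set D := Set.range fun g : G => g * u₀ * g⁻¹ with hD
  have hu₀D : u₀ ∈ D := ⟨1, by simp⟩
  have hDc : ∀ (a : G) {e : G}, e ∈ D → a * e * a⁻¹ ∈ D := by
    rintro a _ ⟨b, rfl⟩
    exact ⟨a * b, by group⟩
  let N : Subgroup G :=
    { carrier := {g | ∀ e ∈ D, Rel p (g * e * g⁻¹) e}
      one_mem' := fun e he => by simpa using rel_refl (p := p) e
      mul_mem' := fun {g h} hg hh e he => by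
        have h1 := hg _ (hDc h he)
        have h2 := rel_trans hps hgood (hDc g (hDc h he)) (hDc h he) he h1 (hh e he)
        simpa [mul_assoc] using h2
      inv_mem' := fun {g} hg e he => by
        have h1 := rel_symm (hg _ (hDc g⁻¹ he))
        simpa [mul_assoc] using h1 }
  have hmem : ∀ g : G, g ∈ N ↔ ∀ e ∈ D, Rel p (g * e * g⁻¹) e := fun g => Iff.rfl
  have hNn : N.Normal := by
    refine ⟨fun g hg a => ?_⟩
    rw [hmem] at hg ⊢
    intro e he
    have h1 := rel_conj a (hg _ (hDc a⁻¹ he))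
    simpa [mul_assoc] using h1
  obtain ⟨g₀, hne, hpair⟩ := hmove
  rcases hNn.eq_bot_or_eq_top with hN | hN
  · have heq : ∀ u ∈ D, ∀ v ∈ D, Rel p u v → u = v := by
      intro u hu v hv h
      have h1 : v⁻¹ * u ∈ N := by
        rw [hmem]
        intro e he
        have h2 := rel_conj v⁻¹ (rel_step hps hgood hu hv he h)
        simpa [mul_assoc] using h2
      rw [hN, Subgroup.mem_bot] at h1
      exact (inv_mul_eq_one.mp h1).symm
    have hu₀p : ∀ v ∈ D, ∃ n : ℕ, orderOf v = p ^ n := by
      rintro _ ⟨b, rfl⟩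
      obtain ⟨n, hn⟩ := hu
      exact ⟨n, by rw [← hn]; exact (SemiconjBy.conj_mk b u₀).orderOf_eq.symm⟩
    have hP : ∀ u ∈ D, ∀ v ∈ D, IsPGroup p ↥(Subgroup.closure ({u, v} : Set G)) := by
      intro u hu v hv
      have hX3 : Subgroup.closure ({u, v, v} : Set G) = Subgroup.closure ({u, v} : Set G) := by simp
      set X := Subgroup.closure ({u, v} : Set G) with hX
      have hXs : IsPSolvable p ↥X := by
        have := hps u v v hu hv hv
        rwa [hX3] at this
      have huX : u ∈ X := Subgroup.subset_closure (Set.mem_insert _ _)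
      have hvX : v ∈ X := Subgroup.subset_closure (Set.mem_insert_of_mem _ rfl)
      have hfix : ∀ w ∈ D, w ∈ X → ∀ k ∈ kore p X, k * w = w * k := by
        intro w hw hwX k hk
        have hkX : k ∈ X := kore_le X hk
        have hcl : Subgroup.closure ({k * w * k⁻¹, w} : Set G) ≤ X := by
          rw [Subgroup.closure_le]
          intro a ha
          rcases ha with rfl | ha
          · exact mul_mem (mul_mem hkX hwX) (inv_mem hkX)
          · rw [Set.mem_singleton_iff] at ha; rw [ha]; exact hwX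
        have h1 : Rel p (k * w * k⁻¹) w := by
          refine kore_inf_le hcl ?_ ?_
          · have h2 := mul_mem hk (kore_conj hwX (inv_mem hk))
            simpa [mul_assoc] using h2
          · exact mul_mem (Subgroup.subset_closure (Set.mem_insert _ _))
              (inv_mem (Subgroup.subset_closure (Set.mem_insert_of_mem _ rfl)))
        exact mul_inv_eq_iff_eq_mul.mp (heq _ (hDc k hw) _ hw h1)
      let S : Set ↥X := X.subtype ⁻¹' ({u, v} : Set G)
      have hS : Subgroup.closure S = ⊤ := Subgroup.closure_closure_coe_preimage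
      have hSD : ∀ s ∈ S, (s : G) ∈ D := by
        intro s hs
        rcases hs with h | h
        · rw [Subgroup.coe_subtype] at h; rw [h]; exact hu
        · rw [Subgroup.coe_subtype, Set.mem_singleton_iff] at h; rw [h]; exact hv
      refine isPGroup_of_central S hS ?_ ?_ ?_
      · intro s hs
        obtain ⟨n, hn⟩ := hu₀p _ (hSD s hs)
        refine IsPGroup.of_card (n := n) ?_
        rw [Nat.card_zpowers, ← Subgroup.orderOf_coe, hn]
      · rw [eq_top_iff, ← hS, Subgroup.closure_le]
        intro s hs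
        obtain ⟨b, hb⟩ := hSD s hs
        have hb' : b * u₀ * b⁻¹ ∈ X := by rw [show b * u₀ * b⁻¹ = (s : G) from hb]; exact s.2
        have := hgood b X hb' hXs
        have hse : (⟨b * u₀ * b⁻¹, hb'⟩ : ↥X) = s := Subtype.ext hb
        rwa [hse] at this
      · intro k hk
        have hkk : (k : G) ∈ kore p X := ⟨k, hk, rfl⟩
        rw [Subgroup.mem_center_iff]
        intro x
        have hx : x ∈ Subgroup.closure S := hS ▸ Subgroup.mem_top x
        have hle : Subgroup.closure S ≤ Subgroup.centralizer ({k} : Set ↥X) := by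
          rw [Subgroup.closure_le]
          intro s hs
          rw [SetLike.mem_coe, Subgroup.mem_centralizer_singleton_iff]
          exact Subtype.ext (hfix _ (hSD s hs) s.2 _ hkk).symm
        exact Subgroup.mem_centralizer_singleton_iff.mp (hle hx)
    obtain ⟨M, hMn, hMp, hle⟩ := Cfsg.Agent.S0199.result (p := p) (Subgroup.zpowers u₀) (by
        obtain ⟨n, hn⟩ := hu
        exact IsPGroup.of_card (n := n) (by rw [Nat.card_zpowers, hn])) (fun g => by
      refine (hP u₀ hu₀D _ (hDc g hu₀D)).to_le (sup_le ?_ ?_)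
      · rw [Subgroup.zpowers_le]
        exact Subgroup.subset_closure (Set.mem_insert _ _)
      · rw [MonoidHom.map_zpowers, Subgroup.zpowers_le]
        exact Subgroup.subset_closure (Set.mem_insert_of_mem _ rfl))
    rcases hMn.eq_bot_or_eq_top with hM | hM
    · rw [hM, le_bot_iff, Subgroup.zpowers_eq_bot] at hle
      exact hne (by simp [hle])
    · rw [hM] at hMp
      have hG : IsPGroup p G := hMp.of_equiv Subgroup.topEquiv
      haveI : Nontrivial G := IsSimpleGroup.toNontrivial
      haveI := hG.center_nontrivial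
      rcases (inferInstance : (Subgroup.center G).Normal).eq_bot_or_eq_top with h | h
      · exact (Subgroup.nontrivial_iff_ne_bot _).mp inferInstance h
      · refine hna ⟨⟨fun a b => ?_⟩⟩
        exact Subgroup.mem_center_iff.mp (h ▸ Subgroup.mem_top b) a
  · have h1 : Rel p (g₀ * u₀ * g₀⁻¹) u₀ := by
      have : g₀ ∈ N := hN ▸ Subgroup.mem_top g₀
      exact (hmem g₀).mp this u₀ hu₀D
    have h2 : g₀ * u₀ * g₀⁻¹ * u₀⁻¹ ∈ Subgroup.closure ({u₀, g₀ * u₀ * g₀⁻¹} : Set G) :=
      mul_mem (Subgroup.subset_closure (Set.mem_insert_of_mem _ rfl))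
        (inv_mem (Subgroup.subset_closure (Set.mem_insert _ _)))
    exact hne (mul_inv_eq_one.mp (FlavellAux.eq_one_of_mem hpair h2
      ((kore_coprime _).coprime_dvd_left (Subgroup.orderOf_dvd_natCard _ h1))))

end Cfsg.Agent.PairSyl14
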